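import Mathlib
import Cfsg.Agent.Blocks.Palfy.Dual
import Cfsg.Agent.Chars.DegreeTools

/-!
# Determinants over a normal subgroup of the derived group
-/

set_option autoImplicit false
set_option linter.unusedSectionVars false
set_option linter.style.haveILetI false

namespace Cfsg.Lib.RelGraph

open Cfsg.Lib.Chars Cfsg.Lib.Blocks Subgroup

universe u

variable {G : Type u} [Group G] [Finite G]

theorem detChar_add {α β : G → ℂ} (hα : Cfsg.IsCharacter G α) (hβ : Cfsg.IsCharacter G β) (g : G) :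
    Cfsg.detChar (α + β) g = Cfsg.detChar α g * Cfsg.detChar β g := by
  obtain ⟨n, ρ, rfl⟩ := hα
  obtain ⟨m, σ, rfl⟩ := hβ
  rw [← character_prod, detChar_character (ρ.prod σ) g, detChar_character ρ g, detChar_character σ g]
  exact LinearMap.det_prodMap (ρ g) (σ g)

theorem detChar_zero (g : G) : Cfsg.detChar (0 : G → ℂ) g = 1 := by
  let τ : Representation ℂ G (Fin 0 → ℂ) := 1
  have h : τ.character = 0 := by
    funext x
    simp [Representation.character, τ]
  rw [← h, detChar_character τ g]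
  exact LinearMap.det_eq_one_of_subsingleton _

theorem detChar_nsmul {α : G → ℂ} (hα : Cfsg.IsCharacter G α) (k : ℕ) :
    Cfsg.IsCharacter G ((k : ℂ) • α) ∧
      ∀ g, Cfsg.detChar ((k : ℂ) • α) g = Cfsg.detChar α g ^ k := by
  induction k with
  | zero =>
    rw [Nat.cast_zero, zero_smul]
    exact ⟨isCharacter_zero, fun g => by rw [detChar_zero, pow_zero]⟩
  | succ k ih =>
    rw [Nat.cast_succ, add_smul, one_smul]
    exact ⟨IsCharacter.add ih.1 hα, fun g => by rw [detChar_add ih.1 hα, ih.2, pow_succ]⟩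

theorem detChar_comp {H : Type u} [Group H] [Finite H] (f : H →* G) {χ : G → ℂ}
    (hχ : Cfsg.IsCharacter G χ) (x : H) :
    Cfsg.detChar (fun h => χ (f h)) x = Cfsg.detChar χ (f x) := by
  obtain ⟨n, ρ, rfl⟩ := hχ
  let σ : Representation ℂ H (Fin n → ℂ) := MonoidHom.comp ρ f
  rw [show (fun h => ρ.character (f h)) = σ.character from rfl, detChar_character σ x,
    detChar_character ρ (f x)]
  rfl

theorem detChar_eq_one {χ : G → ℂ} (hχ : Cfsg.IsCharacter G χ) {x : G}
    (hx : x ∈ _root_.commutator G) : Cfsg.detChar χ x = 1 := by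
  obtain ⟨f, hf⟩ := detChar_is_hom hχ
  rw [hf]
  show ((f x : ℂˣ) : ℂ) = 1
  rw [MonoidHom.mem_ker.1 (Abelianization.commutator_subset_ker f hx), Units.val_one]

variable {N : Subgroup G} [N.Normal] [Fintype G] [Fintype N]

theorem isCharacter_conjN {α : N → ℂ} (hα : Cfsg.IsIrrCharacter N α) (g : G) :
    Cfsg.IsCharacter N (conjN N g α) := isCharacter_of_irr (IsIrrCharacter.conjN hα g)

/-- The orbit sum. -/
noncomputable def orbSum (N : Subgroup G) [N.Normal] (θ : N → ℂ) : N → ℂ :=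
  ∑ ψ ∈ conjOrbit N θ, ψ

theorem isCharacter_orbSum {θ : N → ℂ} (hθ : Cfsg.IsIrrCharacter N θ) :
    Cfsg.IsCharacter N (orbSum N θ) :=
  IsCharacter.sum _ _ fun ψ hψ => by
    obtain ⟨g, rfl⟩ := (mem_conjOrbit N).1 hψ
    exact isCharacter_conjN hθ g

theorem orbSum_one (θ : N → ℂ) : orbSum N θ 1 = (conjOrbit N θ).card * θ 1 := by
  rw [orbSum, Finset.sum_apply, Finset.sum_congr rfl (g := fun _ => θ 1) fun ψ hψ => ?_,
    Finset.sum_const, nsmul_eq_mul]
  obtain ⟨g, rfl⟩ := (mem_conjOrbit N).1 hψ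
  rw [conjN_eq_comp]
  exact congrArg θ (map_one _)

/-- `χ` lies over `θ`. -/
def Above (N : Subgroup G) [Fintype N] (χ : G → ℂ) (θ : N → ℂ) : Prop :=
  Cfsg.classInner (fun n : N => χ n) θ ≠ 0

theorem card_orbit_eq_index (θ : N → ℂ) : (conjOrbit N θ).card = (inertia N θ).index := by
  have h1 := card_conjOrbit N θ
  rw [← (inertia N θ).index_mul_card] at h1
  exact Nat.eq_of_mul_eq_mul_right Nat.card_pos h1

/-- The restriction and the degree above `θ`. -/
theorem restrict_eq {χ : Cfsg.IrrCharacter G} {θ : N → ℂ} (hθ : Cfsg.IsIrrCharacter N θ)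
    (h : Above N (χ : G → ℂ) θ) :
    ∃ e : ℕ, (fun n : N => (χ : G → ℂ) n) = (e : ℂ) • orbSum N θ ∧
      deg (χ : G → ℂ) = e * ((inertia N θ).index * deg θ) := by
  obtain ⟨e, he⟩ := IsCharacter.exists_mult (IsCharacter.restrict (isCharacter_of_irr χ.2) N) hθ
  have hcl := clifford N χ.2 hθ h
  rw [he] at hcl
  refine ⟨e, hcl, Nat.cast_injective (R := ℂ) ?_⟩
  have h2 : (χ : G → ℂ) ((1 : N) : G) = (e : ℂ) * orbSum N θ 1 := congrFun hcl 1
  rw [orbSum_one, card_orbit_eq_index, OneMemClass.coe_one] at h2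
  push_cast
  rw [← irr_apply_one_eq_deg χ, ← irr_apply_one_eq_deg ⟨θ, hθ⟩]
  exact h2

theorem index_dvd_deg {χ : Cfsg.IrrCharacter G} {θ : N → ℂ} (hθ : Cfsg.IsIrrCharacter N θ)
    (h : Above N (χ : G → ℂ) θ) : (inertia N θ).index * deg θ ∣ deg (χ : G → ℂ) := by
  obtain ⟨e, -, he⟩ := restrict_eq hθ h
  exact ⟨e, by rw [he, mul_comm]⟩

/-- The determinant relation. -/
theorem det_orbSum (hNG : N ≤ _root_.commutator G) {χ : Cfsg.IrrCharacter G} {θ : N → ℂ}
    (hθ : Cfsg.IsIrrCharacter N θ) {e : ℕ}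
    (he : (fun n : N => (χ : G → ℂ) n) = (e : ℂ) • orbSum N θ) (x : N) :
    Cfsg.detChar (orbSum N θ) x ^ e = 1 := by
  rw [← (detChar_nsmul (isCharacter_orbSum hθ) e).2 x, ← he]
  exact (detChar_comp N.subtype (isCharacter_of_irr χ.2) x).trans
    (detChar_eq_one (isCharacter_of_irr χ.2) (hNG x.2))

/-- A scalar value inside the derived group. -/
theorem pow_deg_eq_one (hNG : N ≤ _root_.commutator G) (χ : Cfsg.IrrCharacter G) (x : N) (z : ℂˣ)
    (hz : ∀ k : ℤ, (χ : G → ℂ) ((x : G) ^ k) = deg (χ : G → ℂ) * ((z ^ k : ℂˣ) : ℂ)) :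
    z ^ deg (χ : G → ℂ) = 1 := by
  classical
  set Z := zpowers (x : G) with hZ
  have hres : Cfsg.IsCharacter Z (fun y : Z => (χ : G → ℂ) y) :=
    IsCharacter.restrict (isCharacter_of_irr χ.2) Z
  have hord : z ^ orderOf (x : G) = 1 := by
    have h1 := hz (orderOf (x : G))
    rw [zpow_natCast, pow_orderOf_eq_one, irr_apply_one_eq_deg χ, zpow_natCast] at h1
    apply Units.ext
    have hne : (deg (χ : G → ℂ) : ℂ) ≠ 0 := by
      rw [← irr_apply_one_eq_deg χ]; exact IsIrrCharacter.apply_one_ne_zero χ.2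
    rw [Units.val_one]
    exact (mul_left_cancel₀ hne (h1.symm.trans (mul_one _).symm))
  let f : Z →* ℂˣ := monoidHomOfForallMemZpowers (g := ⟨(x : G), mem_zpowers _⟩) (g' := z)
    (fun y => by
      obtain ⟨k, hk⟩ := y.2
      exact ⟨k, Subtype.ext hk⟩)
    (orderOf_dvd_of_pow_eq_one (by rw [Subgroup.orderOf_mk]; exact hord))
  have hfx : f ⟨(x : G), mem_zpowers _⟩ = z := monoidHomOfForallMemZpowers_apply_gen _ _
  have heq : (fun y : Z => (χ : G → ℂ) y) =
      (deg (χ : G → ℂ) : ℂ) • fun y : Z => (f y : ℂ) := by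
    funext y
    obtain ⟨k, hk⟩ := y.2
    have hy : y = (⟨(x : G), mem_zpowers _⟩ : Z) ^ k := Subtype.ext hk.symm
    rw [Pi.smul_apply, smul_eq_mul, hy, map_zpow, hfx]
    exact hz k
  have h1 := detChar_comp Z.subtype (isCharacter_of_irr χ.2) ⟨(x : G), mem_zpowers _⟩
  have h2 : (fun h : Z => (χ : G → ℂ) (Z.subtype h)) = (deg (χ : G → ℂ) : ℂ) • fun y : Z => (f y : ℂ) := heq
  rw [h2, (detChar_nsmul (isCharacter_linear f) _).2,
    detChar_of_linear (isCharacter_linear f) (by rw [map_one, Units.val_one])] at h1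
  rw [show (Z.subtype ⟨(x : G), mem_zpowers _⟩) = (x : G) from rfl,
    detChar_eq_one (isCharacter_of_irr χ.2) (hNG x.2)] at h1
  simp only [hfx] at h1
  exact Units.ext (by rw [Units.val_pow_eq_pow_val, h1, Units.val_one])

end Cfsg.Lib.RelGraph
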