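import Mathlib
import Cfsg.Agent.Blocks.RelGraph.Det
import Cfsg.Prelude.Def_DegreeGraph

/-!
# The relative degree graph has at most two components
-/

set_option autoImplicit false
set_option linter.unusedSectionVars false
set_option linter.style.haveILetI false

namespace Cfsg.Lib.RelGraph

open Cfsg.Lib.Chars Cfsg.Lib.Blocks Subgroup
open Cfsg.Lib.Palfy (dualAct dualAct_apply mem_inertia_iff_dual stab)

universe u

variable {G : Type u} [Group G] [Finite G]

section Algebra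

variable {M : Type*} [CommGroup M]

theorem pow_pow_mul_eq_one {a b : M} {r i j : ℕ} (hi : a ^ r ^ i = 1) (hj : b ^ r ^ j = 1) :
    (a * b) ^ r ^ (i + j) = 1 := by
  rw [mul_pow, pow_add, pow_mul, hi, one_pow, one_mul, mul_comm, pow_mul, hj, one_pow]

theorem inv_pow_eq_one {a : M} {k : ℕ} (h : a ^ k = 1) : a⁻¹ ^ k = 1 := by rw [inv_pow, h, inv_one]

theorem fix_of_pow' (f : M ≃* M) {l : M} {k m : ℕ} (hk : l ^ k = 1) (hkm : k.Coprime m)
    (h : f (l ^ m) = l ^ m) : f l = l := by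
  have e : l = (l ^ m) ^ Nat.gcdA m k := by
    have h1 := Nat.gcd_eq_gcd_ab m k
    rw [hkm.symm] at h1
    calc l = l ^ ((1 : ℕ) : ℤ) := by rw [zpow_natCast, pow_one]
      _ = (l ^ m) ^ Nat.gcdA m k := by
        rw [h1, zpow_add, zpow_mul, zpow_mul, zpow_natCast, zpow_natCast, hk, one_zpow, mul_one]
  rw [e, map_zpow, h]

theorem split_pow {d : M} {t n' n ra : ℕ} {u v : ℤ} (hn : ra * n' = n) (hd : d ^ n = 1)
    (huv : ((n' * t : ℕ) : ℤ) * u + (ra : ℤ) * v = 1) :
    ((d ^ (-((n' : ℤ) * u))) ^ t * d) ^ n' = 1 ∧ (d ^ (-((n' : ℤ) * u)))⁻¹ ^ ra = 1 := by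
  subst hn
  push_cast at huv
  refine ⟨?_, ?_⟩
  · have h1 : (d ^ (-((n' : ℤ) * u))) ^ t * d = d ^ ((ra : ℤ) * v) := by
      rw [← zpow_natCast, ← zpow_mul]
      nth_rewrite 2 [← zpow_one d]
      rw [← zpow_add]
      congr 1
      linear_combination -huv
    rw [h1, ← zpow_natCast, ← zpow_mul,
      show (ra : ℤ) * v * (n' : ℤ) = ((ra * n' : ℕ) : ℤ) * v by push_cast; ring,
      zpow_mul, zpow_natCast, hd, one_zpow]
  · rw [inv_pow, inv_eq_one, ← zpow_natCast, ← zpow_mul,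
      show -((n' : ℤ) * u) * (ra : ℤ) = ((ra * n' : ℕ) : ℤ) * (-u) by push_cast; ring,
      zpow_mul, zpow_natCast, hd, one_zpow]

theorem fix_zpow (f : M ≃* M) {d : M} (h : f d = d) (z : ℤ) : f (d ^ z) = d ^ z := by rw [map_zpow, h]

theorem fix_part (f : M ≃* M) {ν d₀ : M} {t n' : ℕ} (h : f (ν ^ t * d₀) = ν ^ t * d₀)
    (hd : d₀ ^ n' = 1) : f (ν ^ (t * n')) = ν ^ (t * n') := by
  have h1 := congrArg (· ^ n') h
  simp only [← map_pow, mul_pow, hd, mul_one, ← pow_mul] at h1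
  exact h1

theorem pow_right_comm' {M : Type*} [CommGroup M] {a : M} {n : ℕ} (h : a ^ n = 1) (m : ℕ) :
    (a ^ m) ^ n = 1 := by rw [← pow_mul, mul_comm, pow_mul, h, one_pow]

theorem pow_mul_cancel_dvd {a b : M} {c r : ℕ} (h : (a * b) ^ c = 1) (ha : a ^ r = 1) (hc : r ∣ c) :
    b ^ c = 1 := by
  obtain ⟨k, rfl⟩ := hc
  rw [mul_pow, pow_mul a, ha, one_pow, one_mul] at h
  exact h

end Algebra

/-- A linear character as a function. -/
def lin {N : Subgroup G} (l : N →* ℂˣ) : N → ℂ := fun n => (l n : ℂ)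

theorem lin_injective {N : Subgroup G} : Function.Injective (lin (N := N)) := fun a b h =>
  MonoidHom.ext fun n => Units.ext (congrFun h n)

theorem lin_one {N : Subgroup G} : lin (1 : N →* ℂˣ) = fun _ => 1 := rfl

theorem lin_mul {N : Subgroup G} (a b : N →* ℂˣ) : lin (a * b) = lin a * lin b := by
  funext n
  simp [lin]

/-- `r`-power order. -/
def RP (r : ℕ) {N : Subgroup G} (l : N →* ℂˣ) : Prop := ∃ k : ℕ, l ^ r ^ k = 1

theorem RP.mul {r : ℕ} {N : Subgroup G} {a b : N →* ℂˣ} : RP r a → RP r b → RP r (a * b) := by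
  rintro ⟨i, hi⟩ ⟨j, hj⟩
  exact ⟨i + j, pow_pow_mul_eq_one (M := N →* ℂˣ) (a := a) (b := b) hi hj⟩

theorem RP.inv {r : ℕ} {N : Subgroup G} {a : N →* ℂˣ} : RP r a → RP r a⁻¹ := fun ⟨i, hi⟩ =>
  ⟨i, inv_pow_eq_one (M := N →* ℂˣ) (a := a) hi⟩

/-- Connectedness of two degrees. -/
def Conn (N : Subgroup G) (a b : ℕ) : Prop :=
  ∃ (ha : a ∈ Cfsg.relCharDegrees N) (hb : b ∈ Cfsg.relCharDegrees N),
    (Cfsg.commonDivisorGraph.induce (Cfsg.relCharDegrees N)).Reachable ⟨a, ha⟩ ⟨b, hb⟩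

theorem Conn.symm {N : Subgroup G} {a b : ℕ} : Conn N a b → Conn N b a :=
  fun ⟨ha, hb, h⟩ => ⟨hb, ha, h.symm⟩

theorem Conn.trans {N : Subgroup G} {a b c : ℕ} : Conn N a b → Conn N b c → Conn N a c :=
  fun ⟨ha, _, h⟩ ⟨_, hc, h'⟩ => ⟨ha, hc, h.trans h'⟩

theorem conn_of_dvd {N : Subgroup G} {a b d : ℕ} (ha : a ∈ Cfsg.relCharDegrees N)
    (hb : b ∈ Cfsg.relCharDegrees N) (hd : 1 < d) (h1 : d ∣ a) (h2 : d ∣ b) : Conn N a b := by
  refine ⟨ha, hb, ?_⟩
  by_cases hab : a = b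
  · subst hab
    exact SimpleGraph.Reachable.refl _
  refine SimpleGraph.Adj.reachable (show Cfsg.commonDivisorGraph.Adj a b from ⟨hab, ?_⟩)
  have hg : Nat.gcd a b ≠ 0 := by
    intro h0
    rw [Nat.gcd_eq_zero_iff] at h0
    exact hab (h0.1.trans h0.2.symm)
  exact lt_of_lt_of_le hd (Nat.le_of_dvd (Nat.pos_of_ne_zero hg) (Nat.dvd_gcd h1 h2))

theorem exists_dvd_inv {k m : ℕ} (h : k.Coprime m) :
    ∃ u v : ℤ, (m : ℤ) * u + (k : ℤ) * v = 1 := by
  refine ⟨Nat.gcdA m k, Nat.gcdB m k, ?_⟩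
  rw [← Nat.gcd_eq_gcd_ab, h.symm]
  rfl

variable {N : Subgroup G} [hN : N.Normal]

/-- A power with coprime exponent has the same stabiliser. -/
theorem fix_of_pow {g : G} {l : N →* ℂˣ} {k m : ℕ} (hk : l ^ k = 1) (hkm : k.Coprime m)
    (h : dualAct N g (l ^ m) = l ^ m) : dualAct N g l = l :=
  fix_of_pow' (M := N →* ℂˣ) (dualAct N g) hk hkm h

theorem conjN_lin (g : G) (l : N →* ℂˣ) : conjN N g (lin l) = lin (dualAct N g⁻¹ l) := by
  funext n
  rw [conjN_eq_comp]
  show ((l (MulAut.conjNormal g n) : ℂˣ) : ℂ) = ((dualAct N g⁻¹ l n : ℂˣ) : ℂ)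
  rw [dualAct_apply, inv_inv]

variable [Fintype G] [Fintype N]

theorem mem_inertia_lin {g : G} {l : N →* ℂˣ} : g ∈ inertia N (lin l) ↔ dualAct N g l = l :=
  mem_inertia_iff_dual g l

theorem mem_rel {χ : Cfsg.IrrCharacter G} {θ : N → ℂ} (hθ : Cfsg.IsIrrCharacter N θ)
    (h : Above N (χ : G → ℂ) θ) (hne : θ ≠ fun _ => 1) :
    deg (χ : G → ℂ) ∈ Cfsg.relCharDegrees N := by
  refine ⟨χ, ?_, charDegree_eq_deg χ.2⟩
  by_contra hall
  push Not at hall
  refine h ?_
  rw [show (fun n : N => (χ : G → ℂ) n) = ((χ : G → ℂ) 1) • (fun _ => (1 : ℂ)) from funext fun n => by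
    rw [Pi.smul_apply, smul_eq_mul, mul_one]; exact hall n n.2, classInner_smul_left,
    classInner_irrChar isIrrCharacter_one hθ, if_neg (Ne.symm hne), mul_zero]

theorem exists_above {θ : N → ℂ} (hθ : Cfsg.IsIrrCharacter N θ) :
    ∃ χ : Cfsg.IrrCharacter G, Above N (χ : G → ℂ) θ := by
  obtain ⟨χ, hχ, h⟩ := exists_over N hθ
  exact ⟨⟨χ, hχ⟩, h⟩

theorem exists_of_rel {a : ℕ} (ha : a ∈ Cfsg.relCharDegrees N) :
    ∃ (χ : Cfsg.IrrCharacter G) (θ : N → ℂ), Cfsg.IsIrrCharacter N θ ∧ Above N (χ : G → ℂ) θ ∧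
      θ ≠ (fun _ => 1) ∧ deg (χ : G → ℂ) = a := by
  obtain ⟨χ, ⟨x, hx, hne⟩, hd⟩ := ha
  obtain ⟨θ, hθ, hc⟩ := exists_constituent N (isCharacter_of_irr χ.2)
    (IsIrrCharacter.apply_one_ne_zero χ.2)
  refine ⟨χ, θ, hθ, hc, ?_, by rw [← hd, charDegree_eq_deg χ.2]⟩
  rintro rfl
  obtain ⟨e, he, -⟩ := restrict_eq hθ hc
  apply hne
  have hconst : ∀ y : N, orbSum N (fun _ => (1 : ℂ)) y = orbSum N (fun _ => (1 : ℂ)) 1 := fun y => by
    rw [orbSum, Finset.sum_apply, Finset.sum_apply]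
    refine Finset.sum_congr rfl fun ψ hψ => ?_
    obtain ⟨g, rfl⟩ := (mem_conjOrbit N).1 hψ
    rfl
  have h1 : (χ : G → ℂ) x = (e : ℂ) * orbSum N (fun _ => (1 : ℂ)) ⟨x, hx⟩ := congrFun he ⟨x, hx⟩
  have h2 : (χ : G → ℂ) ((1 : N) : G) = (e : ℂ) * orbSum N (fun _ => (1 : ℂ)) 1 := congrFun he 1
  rw [OneMemClass.coe_one] at h2
  rw [h1, hconst, h2]

theorem conn_of_same_linear {l : N →* ℂˣ} (hl : l ≠ 1) {χ χ' : Cfsg.IrrCharacter G}
    (h : Above N (χ : G → ℂ) (lin l)) (h' : Above N (χ' : G → ℂ) (lin l))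
    (hi : 1 < (inertia N (lin l)).index) : Conn N (deg (χ : G → ℂ)) (deg (χ' : G → ℂ)) := by
  have hne : lin l ≠ fun _ => 1 := fun e => hl (lin_injective e)
  have hirr : Cfsg.IsIrrCharacter N (lin l) := isIrrCharacter_linear l
  exact conn_of_dvd (mem_rel hirr h hne) (mem_rel hirr h' hne) hi
    ((dvd_mul_right _ _).trans (index_dvd_deg hirr h)) ((dvd_mul_right _ _).trans (index_dvd_deg hirr h'))

variable {r : ℕ} [hr : Fact r.Prime]

/-- Splitting off the `r`-part of the determinant. -/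
theorem decomp {θ : N → ℂ} (hθ : Cfsg.IsIrrCharacter N θ) (hd : ¬ r ∣ deg θ) :
    ∃ (μ : N →* ℂˣ) (θ₀ : N → ℂ), RP r μ ∧ Cfsg.IsIrrCharacter N θ₀ ∧ θ = lin μ * θ₀ ∧
      deg θ₀ = deg θ ∧ (∀ g, g ∈ inertia N θ → g ∈ inertia N θ₀) ∧
      (∀ (ν : N →* ℂˣ) (g : G), RP r ν → g ∈ inertia N (lin ν * θ₀) →
        g ∈ inertia N θ₀ ∧ g ∈ inertia N (lin ν)) ∧
      (deg θ = 1 → ∃ (α : N →* ℂˣ) (n : ℕ), θ₀ = lin α ∧ α ^ n = 1 ∧ r.Coprime n) := by
  classical
  obtain ⟨d, hdd⟩ := detChar_is_hom (isCharacter_of_irr hθ)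
  set n := Nat.card N with hn
  set a := n.factorization r with ha
  set n' := n / r ^ a with hn'
  have hnpos : n ≠ 0 := Nat.card_pos.ne'
  have hsplit : r ^ a * n' = n := Nat.ordProj_mul_ordCompl_eq_self n r
  have hn'r : r.Coprime n' := (Nat.coprime_ordCompl hr.out hnpos)
  have hdn : d ^ n = 1 := MonoidHom.ext fun x => by
    rw [MonoidHom.pow_apply, ← map_pow, hn, pow_card_eq_one', map_one, MonoidHom.one_apply]
  have hcop : (r ^ a).Coprime (n' * deg θ) :=
    Nat.Coprime.mul_right (hn'r.pow_left a) ((hr.out.coprime_iff_not_dvd.2 hd).pow_left a)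
  obtain ⟨u, v, huv⟩ := exists_dvd_inv hcop
  set μ₀ : N →* ℂˣ := d ^ (-((n' : ℤ) * u)) with hμ₀
  set θ₀ : N → ℂ := lin μ₀ * θ with hθ₀
  have hθ₀irr : Cfsg.IsIrrCharacter N θ₀ := IsIrrCharacter.mul_linear hθ μ₀
  have hdeg : deg θ₀ = deg θ := by
    apply Nat.cast_injective (R := ℂ)
    rw [← irr_apply_one_eq_deg ⟨θ₀, hθ₀irr⟩, ← irr_apply_one_eq_deg ⟨θ, hθ⟩]
    show ((μ₀ 1 : ℂˣ) : ℂ) * θ 1 = θ 1
    rw [map_one, Units.val_one, one_mul]
  set d₀ : N →* ℂˣ := μ₀ ^ deg θ * d with hd₀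
  obtain ⟨hd₀n, hμn⟩ := split_pow (M := N →* ℂˣ) (t := deg θ) hsplit hdn huv
  have hdet0 : Cfsg.detChar θ₀ = lin d₀ := by
    funext x
    rw [hθ₀]
    show Cfsg.detChar ((fun g => (μ₀ g : ℂ)) * θ) x = _
    rw [detChar_linear_mul μ₀ (isCharacter_of_irr hθ) (irr_apply_one_eq_deg ⟨θ, hθ⟩), hdd]
    simp [hd₀, lin]
  have hdetconj : ∀ (g : G) {φ : N → ℂ} (D : N →* ℂˣ), Cfsg.IsIrrCharacter N φ →
      Cfsg.detChar φ = lin D → g ∈ inertia N φ → dualAct N g D = D := by
    intro g φ D hφ hD hg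
    rw [← mem_inertia_lin, mem_inertia]
    funext x
    have h1 := detChar_comp (MulAut.conjNormal g : MulAut N).toMonoidHom (isCharacter_of_irr hφ) x
    rw [show (fun h => φ ((MulAut.conjNormal g : MulAut N).toMonoidHom h)) = φ from
      (conjN_eq_comp N g φ).symm.trans (mem_inertia.1 hg), hD] at h1
    rw [conjN_eq_comp]
    exact h1.symm
  refine ⟨μ₀⁻¹, θ₀, ⟨a, ?_⟩, hθ₀irr, ?_, hdeg, fun g hg => ?_, fun ν g hν hg => ?_, fun h1 => ?_⟩
  · exact hμn
  · funext x
    show θ x = ((μ₀⁻¹ x : ℂˣ) : ℂ) * (((μ₀ x : ℂˣ) : ℂ) * θ x)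
    rw [← mul_assoc, MonoidHom.inv_apply, Units.inv_mul, one_mul]
  · have h1 := hdetconj g d hθ hdd hg
    have h2 : g ∈ inertia N (lin μ₀) := by
      rw [mem_inertia_lin, hμ₀]
      exact fix_zpow (M := N →* ℂˣ) (dualAct N g) h1 _
    rw [mem_inertia] at h2 hg ⊢
    show conjN N g (lin μ₀) * conjN N g θ = lin μ₀ * θ
    rw [h2, hg]
  · obtain ⟨k, hk⟩ := hν
    have hirr : Cfsg.IsIrrCharacter N (lin ν * θ₀) := IsIrrCharacter.mul_linear hθ₀irr ν
    have hD : Cfsg.detChar (lin ν * θ₀) = lin (ν ^ deg θ * d₀) := by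
      funext x
      show Cfsg.detChar ((fun g => (ν g : ℂ)) * θ₀) x = _
      rw [detChar_linear_mul ν (isCharacter_of_irr hθ₀irr) (irr_apply_one_eq_deg ⟨θ₀, hθ₀irr⟩), hdet0]
      show (ν x : ℂ) ^ deg θ₀ * _ = _
      rw [hdeg]
      simp [lin]
    have h1 := fix_part (dualAct N g) (hdetconj g _ hirr hD hg) hd₀n
    have h2 : dualAct N g ν = ν := fix_of_pow hk
      (Nat.Coprime.mul_right ((hr.out.coprime_iff_not_dvd.2 hd).pow_left k) (hn'r.pow_left k)) h1
    rw [← mem_inertia_lin] at h2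
    refine ⟨?_, h2⟩
    rw [mem_inertia] at h2 hg ⊢
    funext x
    have h3 := congrFun hg x
    have h4 := congrFun h2 x
    change conjN N g (lin ν) x * conjN N g θ₀ x = lin ν x * θ₀ x at h3
    rw [h4] at h3
    exact mul_left_cancel₀ (Units.ne_zero _) h3
  · refine ⟨d₀, n', ?_, hd₀n, hn'r⟩
    rw [← hdet0, detChar_of_linear (isCharacter_of_irr hθ₀irr)]
    refine (irr_apply_one_eq_deg ⟨θ₀, hθ₀irr⟩).trans ?_
    show (deg θ₀ : ℂ) = 1
    rw [hdeg, h1, Nat.cast_one]

/-- Orbit sums of translates. -/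
theorem orbSum_mul {l : N →* ℂˣ} (hl : ∀ g, g ∈ inertia N (lin l)) (θ : N → ℂ) :
    orbSum N (lin l * θ) = lin l * orbSum N θ := by
  classical
  have hc : ∀ g, conjN N g (lin l * θ) = lin l * conjN N g θ := fun g => by
    show conjN N g (lin l) * conjN N g θ = _
    rw [mem_inertia.1 (hl g)]
  have himg : conjOrbit N (lin l * θ) = (conjOrbit N θ).image (fun ψ => lin l * ψ) := by
    ext φ
    simp only [mem_conjOrbit, Finset.mem_image]
    constructor
    · rintro ⟨g, rfl⟩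
      exact ⟨_, ⟨g, rfl⟩, (hc g).symm⟩
    · rintro ⟨_, ⟨g, rfl⟩, rfl⟩
      exact ⟨g, hc g⟩
  rw [orbSum, orbSum, himg, Finset.sum_image, Finset.mul_sum]
  intro a _ b _ h
  funext x
  exact mul_left_cancel₀ (Units.ne_zero _) (congrFun h x)

variable (hNG : N ≤ _root_.commutator G)
include hNG

/-- On an invariant linear constituent the value is scalar. -/
theorem linear_pow_eq_one {l : N →* ℂˣ} (hl : ∀ g, g ∈ inertia N (lin l))
    {χ : Cfsg.IrrCharacter G} (h : Above N (χ : G → ℂ) (lin l)) : l ^ deg (χ : G → ℂ) = 1 := by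
  obtain ⟨e, he, hdeg⟩ := restrict_eq (isIrrCharacter_linear l) h
  have hi : (inertia N (lin l)).index = 1 := by
    rw [index_eq_one, eq_top_iff]
    exact fun g _ => hl g
  have hsum : orbSum N (lin l) = lin l := by
    have h1 := orbSum_mul hl (fun _ => (1 : ℂ))
    have h2 : lin l * (fun _ => (1 : ℂ)) = lin l := funext fun x => mul_one _
    rw [h2] at h1
    rw [h1, orbSum]
    have h3 : conjOrbit N (fun _ : N => (1 : ℂ)) = {fun _ => 1} := by
      ext φ
      rw [mem_conjOrbit, Finset.mem_singleton]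
      exact ⟨fun ⟨g, hg⟩ => hg.symm.trans rfl, fun hφ => ⟨1, hφ.symm⟩⟩
    rw [h3, Finset.sum_singleton, h2]
  have hed : deg (χ : G → ℂ) = e := by
    rw [hdeg]
    show e * ((inertia N (lin l)).index * deg (fun n : N => (l n : ℂ))) = e
    rw [hi, one_mul]
    simp [deg]
  refine MonoidHom.ext fun x => ?_
  rw [MonoidHom.pow_apply, MonoidHom.one_apply]
  refine pow_deg_eq_one hNG χ x (l x) fun k => ?_
  have h4 : (χ : G → ℂ) ((x ^ k : N) : G) = (e : ℂ) * lin l (x ^ k) := by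
    rw [← hsum]; exact congrFun he (x ^ k)
  rw [SubgroupClass.coe_zpow] at h4
  rw [h4, hed, lin, map_zpow]

/-- An invariant `r`-character connects everything to the degrees divisible by `r`. -/
theorem conn_invariant {l : N →* ℂˣ} (hl1 : l ≠ 1) (hlr : l ^ r = 1)
    (hl : ∀ g, g ∈ inertia N (lin l)) {a b : ℕ} (ha : a ∈ Cfsg.relCharDegrees N)
    (hb : b ∈ Cfsg.relCharDegrees N) : Conn N a b := by
  have hord : orderOf l = r := orderOf_eq_prime hlr hl1
  have hdvd : ∀ {χ : Cfsg.IrrCharacter G}, Above N (χ : G → ℂ) (lin l) → r ∣ deg (χ : G → ℂ) :=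
    fun h => hord ▸ orderOf_dvd_of_pow_eq_one (linear_pow_eq_one hNG hl h)
  obtain ⟨χ₀, h₀⟩ := exists_above (isIrrCharacter_linear l : Cfsg.IsIrrCharacter N (lin l))
  have h₀mem := mem_rel (isIrrCharacter_linear l : Cfsg.IsIrrCharacter N (lin l)) h₀
    fun e => hl1 (lin_injective e)
  have key : ∀ a ∈ Cfsg.relCharDegrees N, Conn N a (deg (χ₀ : G → ℂ)) := by
    intro a ha
    by_cases hra : r ∣ a
    · exact conn_of_dvd ha h₀mem hr.out.one_lt hra (hdvd h₀)
    obtain ⟨χ, θ, hθ, hc, hθ1, rfl⟩ := exists_of_rel ha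
    have hθl : Cfsg.IsIrrCharacter N (lin l * θ) := IsIrrCharacter.mul_linear hθ l
    obtain ⟨χ', hc'⟩ := exists_above hθl
    obtain ⟨e, he, hde⟩ := restrict_eq hθ hc
    obtain ⟨e', he', hde'⟩ := restrict_eq hθl hc'
    have hdeg : deg (lin l * θ) = deg θ := by
      apply Nat.cast_injective (R := ℂ)
      rw [← irr_apply_one_eq_deg ⟨_, hθl⟩, ← irr_apply_one_eq_deg ⟨θ, hθ⟩]
      show ((l 1 : ℂˣ) : ℂ) * θ 1 = θ 1
      rw [map_one, Units.val_one, one_mul]
    have hT : inertia N (lin l * θ) = inertia N θ := by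
      ext g
      rw [mem_inertia, mem_inertia]
      show conjN N g (lin l) * conjN N g θ = lin l * θ ↔ _
      rw [mem_inertia.1 (hl g)]
      refine ⟨fun h => funext fun x => mul_left_cancel₀ (Units.ne_zero _) (congrFun h x), fun h => by rw [h]⟩
    rw [hT, hdeg] at hde'
    set t := (inertia N θ).index * deg θ with ht
    -- the determinant
    have hΦ1 : orbSum N θ 1 = (t : ℂ) := by
      rw [orbSum_one, card_orbit_eq_index, ht]
      push_cast
      rw [← irr_apply_one_eq_deg ⟨θ, hθ⟩]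
    have hrel : l ^ (t * e' * e) = 1 := by
      refine MonoidHom.ext fun x => Units.ext ?_
      rw [MonoidHom.pow_apply, Units.val_pow_eq_pow_val, MonoidHom.one_apply, Units.val_one]
      have h1 := det_orbSum hNG hθl he' x
      have h2 := det_orbSum hNG hθ he x
      rw [orbSum_mul hl] at h1
      change Cfsg.detChar ((fun g => (l g : ℂ)) * orbSum N θ) x ^ e' = 1 at h1
      rw [detChar_linear_mul l (isCharacter_orbSum hθ) hΦ1] at h1
      simp only [Pi.mul_apply, Pi.pow_apply] at h1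
      calc (l x : ℂ) ^ (t * e' * e)
          = (((l x : ℂ) ^ t) ^ e') ^ e * (Cfsg.detChar (orbSum N θ) x ^ e) ^ e' := by
            rw [h2, one_pow, mul_one, ← pow_mul, ← pow_mul, mul_assoc]
        _ = (((l x : ℂ) ^ t * Cfsg.detChar (orbSum N θ) x) ^ e') ^ e := by
            rw [mul_pow, mul_pow, ← pow_mul (Cfsg.detChar _ x), ← pow_mul (Cfsg.detChar _ x),
              mul_comm e' e]
        _ = 1 := by rw [h1, one_pow]
    have hrb : r ∣ deg (χ' : G → ℂ) := by
      have h1 : r ∣ t * e' * e := hord ▸ orderOf_dvd_of_pow_eq_one hrel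
      rcases hr.out.dvd_mul.1 h1 with h2 | h2
      · rw [hde', mul_comm]; exact h2
      · exact absurd (hde ▸ dvd_mul_of_dvd_left h2 t) hra
    have hθl1 : lin l * θ ≠ fun _ => 1 := by
      intro e1
      apply hra
      have h5 : θ = lin l⁻¹ := funext fun x => by
        have h7 : (l x : ℂ) * θ x = 1 := congrFun e1 x
        show θ x = ((l⁻¹ x : ℂˣ) : ℂ)
        rw [MonoidHom.inv_apply, Units.val_inv_eq_inv_val]
        exact eq_inv_of_mul_eq_one_right h7
      have hlinv : ∀ g, g ∈ inertia N (lin l⁻¹) := fun g => by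
        rw [mem_inertia_lin]
        exact (map_inv (G := N →* ℂˣ) (dualAct N g) l).trans (congrArg (fun z : N →* ℂˣ => z⁻¹) (mem_inertia_lin.1 (hl g)))
      rw [h5] at hc
      have h6 := linear_pow_eq_one hNG hlinv hc
      have h6 : l ^ deg (χ : G → ℂ) = 1 := by
        have := inv_pow_eq_one (M := N →* ℂˣ) (a := l⁻¹) h6
        rwa [show (l⁻¹)⁻¹ = l from inv_inv l] at this
      rw [← h5] at hc
      exact hord ▸ orderOf_dvd_of_pow_eq_one h6
    have hmem' := mem_rel hθl hc' hθl1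
    refine Conn.trans ?_ (conn_of_dvd hmem' h₀mem hr.out.one_lt hrb (hdvd h₀))
    by_cases ht1 : 1 < t
    · exact conn_of_dvd ha hmem' ht1 (hde ▸ dvd_mul_left _ _) (hde' ▸ dvd_mul_left _ _)
    -- an invariant linear character
    have htpos : t ≠ 0 := by
      intro h0
      rw [h0, Nat.cast_zero, orbSum_one] at hΦ1
      rcases mul_eq_zero.1 hΦ1 with h3 | h3
      · rw [Nat.cast_eq_zero, card_orbit_eq_index] at h3
        exact Subgroup.index_ne_zero_of_finite h3
      · exact IsIrrCharacter.apply_one_ne_zero hθ h3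
    have ht' : t = 1 := by omega
    obtain ⟨hi, hd1⟩ := mul_eq_one.1 ht'
    obtain ⟨α, rfl⟩ := exists_hom_of_deg_one (isCharacter_of_irr hθ)
      ((irr_apply_one_eq_deg ⟨θ, hθ⟩).trans (by show (deg θ : ℂ) = 1; rw [hd1, Nat.cast_one]))
    have hα : ∀ g, g ∈ inertia N (lin α) := fun g => by
      have : inertia N (lin α) = ⊤ := index_eq_one.1 hi
      rw [this]; exact mem_top g
    have h1 : α ^ deg (χ : G → ℂ) = 1 := linear_pow_eq_one hNG hα hc
    have hinv' : ∀ g, g ∈ inertia N (lin (l * α)) := fun g => by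
      rw [mem_inertia_lin, map_mul, mem_inertia_lin.1 (hl g), mem_inertia_lin.1 (hα g)]
    have h2 : (l * α) ^ deg (χ' : G → ℂ) = 1 := linear_pow_eq_one hNG hinv' (by
      rw [lin_mul]; exact hc')
    have h2 := pow_mul_cancel_dvd (M := N →* ℂˣ) (a := l) (b := α) h2 hlr hrb
    have hα1 : α ≠ 1 := by
      rintro rfl
      exact hθ1 rfl
    refine conn_of_dvd ha hmem' ?_ (orderOf_dvd_of_pow_eq_one h1) (orderOf_dvd_of_pow_eq_one h2)
    refine Nat.lt_of_le_of_ne (orderOf_pos_iff.2 ⟨deg (χ : G → ℂ), ?_, ?_⟩) fun e1 => hα1 (orderOf_eq_one_iff.1 e1.symm)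
    · exact Nat.pos_of_ne_zero fun h0 => hra (h0 ▸ dvd_zero r)
    · exact (isPeriodicPt_mul_iff_pow_eq_one α).2 h1
  exact (key a ha).trans (key b hb).symm

omit hNG in
/-- No `r`-character is invariant. -/
def NoInv (r : ℕ) (N : Subgroup G) [N.Normal] : Prop :=
  ∀ l : N →* ℂˣ, RP r l → l ≠ 1 → 1 < (inertia N (lin l)).index

omit hNG in
theorem pair_shift {V : Type*} [CommGroup V] [Finite V] (act : G →* MulAut V) {a b c : V}
    (h : stab act a ⊓ stab act b ≤ stab act c)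
    (hco : (stab act a).index.Coprime (stab act b).index) :
    (stab act c).index ∣ (stab act a).index * (stab act b).index ∧
      (c = a * b → (stab act c).index = (stab act a).index → b ≠ 1 →
        (∃ k, b ^ r ^ k = 1) → 1 < (stab act b).index →
          r ∣ (stab act a).index) := by
  classical
  letI : MulAction G V :=
    { smul := fun g v => act g v
      one_smul := fun v => by
        show act 1 v = v
        rw [map_one]; rfl
      mul_smul := fun g k v => by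
        show act (g * k) v = act g (act k v)
        rw [map_mul]; rfl }
  have hst : ∀ l : V, MulAction.stabilizer G l = stab act l := fun l => Subgroup.ext fun g => Iff.rfl
  have hst2 : MulAction.stabilizer G (a, b) = stab act a ⊓ stab act b := by
    rw [← hst, ← hst]
    ext g
    simp [MulAction.mem_stabilizer_iff, Prod.ext_iff]
  set I := stab act a ⊓ stab act b with hI
  have horb : ∀ l : V, (stab act l).index = (MulAction.orbit G l).ncard := fun l => by
    rw [← hst, MulAction.index_stabilizer]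
  have hsub : MulAction.orbit G (a, b) ⊆ MulAction.orbit G a ×ˢ MulAction.orbit G b := by
    rintro _ ⟨g, rfl⟩
    exact ⟨⟨g, rfl⟩, ⟨g, rfl⟩⟩
  have hI2 : I.index = (MulAction.orbit G (a, b)).ncard := by
    rw [← hst2, MulAction.index_stabilizer]
  have hfin : (MulAction.orbit G a ×ˢ MulAction.orbit G b).Finite := Set.toFinite _
  have hle : I.index ≤ (stab act a).index * (stab act b).index := by
    rw [hI2, horb, horb, ← Set.ncard_prod]
    exact Set.ncard_le_ncard hsub hfin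
  have hdvd : (stab act a).index * (stab act b).index ∣ I.index :=
    hco.mul_dvd_of_dvd_of_dvd (index_dvd_of_le inf_le_left) (index_dvd_of_le inf_le_right)
  have heq := le_antisymm hle (Nat.le_of_dvd (Nat.pos_of_ne_zero Subgroup.index_ne_zero_of_finite) hdvd)
  refine ⟨heq ▸ index_dvd_of_le h, fun hc hca _ hb hb1 => ?_⟩
  have hfull : MulAction.orbit G (a, b) = MulAction.orbit G a ×ˢ MulAction.orbit G b :=
    Set.eq_of_subset_of_ncard_le hsub (by rw [Set.ncard_prod, ← horb, ← horb, ← hI2, heq]) hfin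
  have hmul : ∀ x ∈ MulAction.orbit G a, ∀ y ∈ MulAction.orbit G b, x * y ∈ MulAction.orbit G c := by
    intro x hx y hy
    obtain ⟨g, hg⟩ : (x, y) ∈ MulAction.orbit G (a, b) := hfull ▸ ⟨hx, hy⟩
    refine ⟨g, ?_⟩
    show act g c = x * y
    have h1 : act g a = x := congrArg Prod.fst hg
    have h2 : act g b = y := congrArg Prod.snd hg
    rw [← h1, ← h2, hc]
    exact map_mul (act g) a b
  -- an orbit element different from `b`
  obtain ⟨b', hb', hne⟩ : ∃ b' ∈ MulAction.orbit G b, b' ≠ b := by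
    by_contra hall
    push Not at hall
    have h1 : MulAction.orbit G b = {b} :=
      Set.eq_singleton_iff_unique_mem.2 ⟨MulAction.mem_orbit_self b, hall⟩
    rw [horb, h1, Set.ncard_singleton] at hb1
    omega
  set d := b' / b with hd
  have himg : ∀ y ∈ MulAction.orbit G b,
      (fun x => x * y) '' MulAction.orbit G a = MulAction.orbit G c := by
    intro y hy
    refine Set.eq_of_subset_of_ncard_le ?_ ?_ (Set.toFinite _)
    · rintro _ ⟨x, hx, rfl⟩
      exact hmul x hx y hy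
    · rw [Set.ncard_image_of_injective _ (fun u v huv => mul_right_cancel (G := V) huv), ← horb,
        ← horb, hca]
  have hdmap : ∀ x ∈ MulAction.orbit G a, x * d ∈ MulAction.orbit G a := by
    intro x hx
    have h1 : x * b' ∈ (fun x => x * b) '' MulAction.orbit G a := by
      rw [himg b (MulAction.mem_orbit_self b)]
      exact hmul x hx b' hb'
    obtain ⟨x', hx', hxx⟩ := h1
    have h2 : x * d = x' := by
      rw [hd, ← mul_div_assoc]
      exact div_eq_of_eq_mul'' hxx.symm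
    rw [h2]; exact hx'
  have hd1 : d ≠ 1 := fun h0 => hne (div_eq_one.1 h0)
  obtain ⟨k, hk⟩ := hb
  have hdr : d ^ r ^ k = 1 := by
    obtain ⟨g, hg⟩ := hb'
    have h3 : b' ^ r ^ k = 1 := by
      rw [← hg]
      show (act g b) ^ r ^ k = 1
      exact (map_pow (G := V) (act g) b (r ^ k)).symm.trans
        ((congrArg (act g) hk).trans (map_one _))
    exact (div_pow (α := V) b' b (r ^ k)).trans (by rw [h3, hk]; exact div_one _)
  -- the free action of `⟨d⟩` on the orbit of `a`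
  let S : Set V := MulAction.orbit G a
  have hzp : ∀ z ∈ zpowers d, ∀ x ∈ S, x * z ∈ S := by
    intro z hz
    obtain ⟨i, rfl⟩ := (isOfFinOrder_of_finite d).mem_powers_iff_mem_zpowers.2 hz
    induction i with
    | zero =>
      intro x hx
      show x * d ^ 0 ∈ S
      rw [show d ^ 0 = (1 : V) from pow_zero d, show x * (1 : V) = x from mul_one x]
      exact hx
    | succ i ih =>
      intro x hx
      show x * d ^ (i + 1) ∈ S
      rw [show d ^ (i + 1) = d ^ i * d from pow_succ d i,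
        show x * (d ^ i * d) = x * d ^ i * d from (mul_assoc x _ _).symm]
      exact hdmap _ (ih (pow_mem (mem_zpowers d) i) x hx)
  letI : MulAction (zpowers d) S :=
    { smul := fun z x => ⟨(x : V) * (z : V), hzp z z.2 x x.2⟩
      one_smul := fun x => Subtype.ext (mul_one (x : V))
      mul_smul := fun z w x => Subtype.ext (by
        show (x : V) * ((z : V) * (w : V)) = (x : V) * w * z
        rw [mul_comm (z : V) w]
        exact (mul_assoc _ _ _).symm) }
  have hfree : ∀ x : S, MulAction.stabilizer (zpowers d) x = ⊥ := fun x => by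
    rw [eq_bot_iff]
    intro z hz
    rw [mem_bot]
    exact Subtype.ext (mul_eq_left.1 (congrArg Subtype.val hz : (x : V) * (z : V) = x))
  have hcard : r ∣ Nat.card (zpowers d) := by
    obtain ⟨j, -, hj⟩ := (Nat.dvd_prime_pow hr.out).1 (orderOf_dvd_of_pow_eq_one hdr)
    rw [Nat.card_zpowers, hj]
    exact dvd_pow_self r fun h0 => hd1 (orderOf_eq_one_iff.1 (by rw [hj, h0, pow_zero]))
  have hS := MulAction.selfEquivSigmaOrbitsQuotientStabilizer (zpowers d) S
  have hSd : Nat.card (zpowers d) ∣ Nat.card S := by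
    classical
    haveI := Fintype.ofFinite (MulAction.orbitRel.Quotient (zpowers d) S)
    rw [Nat.card_congr hS, Nat.card_sigma]
    refine Finset.dvd_sum fun x _ => ?_
    rw [← Subgroup.index_eq_card, hfree, Subgroup.index_bot]
  rw [horb]
  exact hcard.trans hSd

omit hNG in
theorem inertia_lin_eq (l : N →* ℂˣ) : inertia N (lin l) = stab (dualAct N) l :=
  Subgroup.ext fun _ => mem_inertia_lin

set_option maxHeartbeats 300000 in
omit hNG in
theorem index_pair {a b c : N →* ℂˣ}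
    (h : inertia N (lin a) ⊓ inertia N (lin b) ≤ inertia N (lin c))
    (hco : (inertia N (lin a)).index.Coprime (inertia N (lin b)).index) :
    (inertia N (lin c)).index ∣ (inertia N (lin a)).index * (inertia N (lin b)).index ∧
      (c = a * b → (inertia N (lin c)).index = (inertia N (lin a)).index → b ≠ 1 →
        RP r b → 1 < (inertia N (lin b)).index → r ∣ (inertia N (lin a)).index) := by
  rw [inertia_lin_eq, inertia_lin_eq, inertia_lin_eq] at h
  rw [inertia_lin_eq, inertia_lin_eq] at hco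
  rw [inertia_lin_eq, inertia_lin_eq, inertia_lin_eq]
  have h2' := pair_shift (r := r) (V := N →* ℂˣ) (dualAct N) (a := a) (b := b) (c := c)
  have h3 := h2' h
  have h2 := h3 hco
  refine ⟨h2.1, fun hc hca hb hk hb1 => h2.2 hc hca hb ?_ hb1⟩
  obtain ⟨k, hk⟩ := hk
  exact ⟨k, hk⟩

omit hNG in
theorem inf_le_mul (a b : N →* ℂˣ) :
    inertia N (lin a) ⊓ inertia N (lin b) ≤ inertia N (lin (a * b)) := fun g hg => by
  rw [mem_inertia_lin]
  exact (map_mul (dualAct N g) a b).trans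
    (congrArg₂ (fun x y : N →* ℂˣ => x * y) (mem_inertia_lin.1 hg.1) (mem_inertia_lin.1 hg.2))

omit hNG in
/-- Two good characters give connected degrees. -/
theorem conn_good (hno : NoInv r N) {a b : N →* ℂˣ} (ha : RP r a) (hb : RP r b) (ha1 : a ≠ 1)
    (hb1 : b ≠ 1) (har : ¬ r ∣ (inertia N (lin a)).index) (hbr : ¬ r ∣ (inertia N (lin b)).index)
    {χ χ' : Cfsg.IrrCharacter G} (h : Above N (χ : G → ℂ) (lin a))
    (h' : Above N (χ' : G → ℂ) (lin b)) : Conn N (deg (χ : G → ℂ)) (deg (χ' : G → ℂ)) := by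
  have irr : ∀ l : N →* ℂˣ, Cfsg.IsIrrCharacter N (lin l) := fun l => isIrrCharacter_linear l
  have mem : ∀ {l : N →* ℂˣ} {χ : Cfsg.IrrCharacter G}, l ≠ 1 → Above N (χ : G → ℂ) (lin l) →
      deg (χ : G → ℂ) ∈ Cfsg.relCharDegrees N := fun {l} {χ} hl hc =>
    mem_rel (irr l) hc fun e => hl (lin_injective e)
  have dv : ∀ {l : N →* ℂˣ} {χ : Cfsg.IrrCharacter G}, Above N (χ : G → ℂ) (lin l) →
      (inertia N (lin l)).index ∣ deg (χ : G → ℂ) := fun {l} {χ} hc =>
    (dvd_mul_right _ _).trans (index_dvd_deg (irr l) hc)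
  by_cases hco : (inertia N (lin a)).index.Coprime (inertia N (lin b)).index
  swap
  · obtain ⟨d, hd, hda, hdb⟩ := Nat.Prime.not_coprime_iff_dvd.1 hco
    exact conn_of_dvd (mem ha1 h) (mem hb1 h') hd.one_lt (hda.trans (dv h)) (hdb.trans (dv h'))
  have hc1 : a * b ≠ 1 := by
    intro h0
    have hsame : inertia N (lin b) = inertia N (lin a) := by
      have hb' : b = a⁻¹ := (inv_eq_of_mul_eq_one_right (G := N →* ℂˣ) h0).symm
      ext g
      rw [mem_inertia_lin, mem_inertia_lin, hb']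
      constructor
      · intro hg
        have := (map_inv (G := N →* ℂˣ) (dualAct N g) a).symm.trans hg
        exact inv_injective this
      · intro hg
        exact (map_inv (G := N →* ℂˣ) (dualAct N g) a).trans (congrArg (fun z : N →* ℂˣ => z⁻¹) hg)
    rw [hsame] at hco
    exact absurd ((Nat.coprime_self _).1 hco) (hno a ha ha1).ne'
  obtain ⟨ψ, hψ⟩ := exists_above (irr (a * b))
  obtain ⟨hdiv, hkey⟩ := index_pair (r := r) (inf_le_mul a b) hco
  obtain ⟨-, hkey'⟩ := index_pair (r := r) (a := b) (b := a) (c := a * b)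
    (by rw [inf_comm]; exact inf_le_mul a b) hco.symm
  have hc0 := hno (a * b) (ha.mul hb) hc1
  set sa := (inertia N (lin a)).index
  set sb := (inertia N (lin b)).index
  set sc := (inertia N (lin (a * b))).index with hsc
  -- a bridge
  have bridge : ∀ {l : N →* ℂˣ} {χ : Cfsg.IrrCharacter G}, l ≠ 1 → Above N (χ : G → ℂ) (lin l) →
      ¬ sc.Coprime (inertia N (lin l)).index → Conn N (deg (χ : G → ℂ)) (deg (ψ : G → ℂ)) := by
    intro l χ hl hc hnc
    obtain ⟨d, hd, hdc, hdl⟩ := Nat.Prime.not_coprime_iff_dvd.1 hnc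
    exact conn_of_dvd (mem hl hc) (mem hc1 hψ) hd.one_lt (hdl.trans (dv hc)) (hdc.trans (dv hψ))
  -- the third index shares with both
  have hshare : ∀ {x y : N →* ℂˣ}, RP r y → y ≠ 1 → x * y = a * b →
      (inertia N (lin x)).index.Coprime (inertia N (lin y)).index →
      ¬ r ∣ (inertia N (lin x)).index →
      sc ∣ (inertia N (lin x)).index * (inertia N (lin y)).index →
      sc.Coprime (inertia N (lin y)).index →
      (sc = (inertia N (lin x)).index → r ∣ (inertia N (lin x)).index) → False := by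
    intro x y hy hy1 hxy hxyc hxr hd hcy hk
    refine hxr (hk (Nat.dvd_antisymm (hcy.dvd_of_dvd_mul_right hd) ?_))
    have hle : inertia N (lin (a * b)) ⊓ inertia N (lin y) ≤ inertia N (lin x) := fun g hg => by
      rw [mem_inertia_lin]
      have e : x = (a * b) * y⁻¹ := by rw [← hxy]; exact (mul_inv_cancel_right x y).symm
      rw [e]
      exact (map_mul (dualAct N g) (a * b) y⁻¹).trans (congrArg₂ (fun u v : N →* ℂˣ => u * v)
        (mem_inertia_lin.1 hg.1) ((map_inv (G := N →* ℂˣ) (dualAct N g) y).trans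
          (congrArg (fun z : N →* ℂˣ => z⁻¹) (mem_inertia_lin.1 hg.2))))
    exact hxyc.dvd_of_dvd_mul_right (index_pair (r := r) hle hcy).1
  have hna : ¬ sc.Coprime sb := fun hcy =>
    hshare hb hb1 rfl hco har hdiv hcy fun e => hkey rfl e hb1 hb (hno b hb hb1)
  have hnb : ¬ sc.Coprime sa := fun hcx =>
    hshare ha ha1 (mul_comm b a) hco.symm hbr (by rw [mul_comm]; exact hdiv) hcx
      fun e => hkey' (mul_comm a b) e ha1 ha (hno a ha ha1)
  exact (bridge ha1 h hnb).trans (bridge hb1 h' hna).symm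

/-- The degrees prime to `r` are tied to any good character. -/
theorem conn_hub (hno : NoInv r N) {ν : N →* ℂˣ} (hν : RP r ν) (hν1 : ν ≠ 1)
    (hνr : ¬ r ∣ (inertia N (lin ν)).index) {ψ : Cfsg.IrrCharacter G}
    (hψ : Above N (ψ : G → ℂ) (lin ν)) {a : ℕ} (ha : a ∈ Cfsg.relCharDegrees N) (hra : ¬ r ∣ a) :
    Conn N a (deg (ψ : G → ℂ)) := by
  classical
  obtain ⟨χ, θ, hθ, hc, hθ1, rfl⟩ := exists_of_rel ha
  have hdvd := index_dvd_deg hθ hc
  have hd : ¬ r ∣ deg θ := fun h => hra ((h.trans (dvd_mul_left _ _)).trans hdvd)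
  have hi : ¬ r ∣ (inertia N θ).index := fun h => hra ((h.trans (dvd_mul_right _ _)).trans hdvd)
  obtain ⟨μ, θ₀, hμ, hθ₀, hθeq, hdeg, hstab, hsep, hlin⟩ := decomp (r := r) hθ hd
  have irrν : Cfsg.IsIrrCharacter N (lin ν) := isIrrCharacter_linear ν
  have hψmem := mem_rel irrν hψ fun e => hν1 (lin_injective e)
  by_cases h01 : θ₀ = fun _ => 1
  · have hθl : θ = lin μ := by rw [hθeq, h01]; funext x; exact mul_one _
    subst hθl
    exact conn_good hno hμ hν (fun e => hθ1 (by rw [e]; rfl)) hν1 hi hνr hc hψ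
  -- the translate
  have hirr : Cfsg.IsIrrCharacter N (lin ν * θ₀) := IsIrrCharacter.mul_linear hθ₀ ν
  have hdeg' : deg (lin ν * θ₀) = deg θ := by
    rw [← hdeg]
    apply Nat.cast_injective (R := ℂ)
    rw [← irr_apply_one_eq_deg ⟨_, hirr⟩, ← irr_apply_one_eq_deg ⟨θ₀, hθ₀⟩]
    show ((ν 1 : ℂˣ) : ℂ) * θ₀ 1 = θ₀ 1
    rw [map_one, Units.val_one, one_mul]
  have hne : lin ν * θ₀ ≠ fun _ => 1 := by
    intro e
    have h1 : deg θ = 1 := by
      rw [← hdeg']
      apply Nat.cast_injective (R := ℂ)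
      rw [← irr_apply_one_eq_deg ⟨_, hirr⟩, Nat.cast_one]
      show (lin ν * θ₀) 1 = 1
      rw [e]
    obtain ⟨α, n, hα, hαn, hn⟩ := hlin h1
    rw [hα, ← lin_mul] at e
    have h2 : α = ν⁻¹ := (inv_eq_of_mul_eq_one_right (lin_injective (e.trans lin_one.symm))).symm
    obtain ⟨k, hk⟩ := hν.inv
    have h3 : orderOf α ∣ 1 := by
      rw [← (hn.pow_left k : (r ^ k).Coprime n)]
      exact Nat.dvd_gcd (orderOf_dvd_of_pow_eq_one (h2.symm ▸ hk)) (orderOf_dvd_of_pow_eq_one hαn)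
    rw [Nat.dvd_one, orderOf_eq_one_iff] at h3
    exact h01 (by rw [hα, h3]; rfl)
  obtain ⟨χ', hc'⟩ := exists_above hirr
  have hmem' := mem_rel hirr hc' hne
  have hdvd' := index_dvd_deg hirr hc'
  rw [hdeg'] at hdvd'
  refine Conn.trans ?_ (conn_of_dvd hmem' hψmem (hno ν hν hν1) ?_ ((dvd_mul_right _ _).trans (index_dvd_deg irrν hψ)))
  swap
  · refine dvd_trans ?_ ((dvd_mul_right _ _).trans hdvd')
    exact index_dvd_of_le fun g hg => (hsep ν g hν hg).2
  have hle : inertia N (lin ν * θ₀) ≤ inertia N θ₀ := fun g hg => (hsep ν g hν hg).1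
  set t := (inertia N θ₀).index * deg θ with ht
  have hta : t ∣ deg (χ : G → ℂ) :=
    (Nat.mul_dvd_mul_right (index_dvd_of_le hstab) _).trans hdvd
  have htb : t ∣ deg (χ' : G → ℂ) :=
    (Nat.mul_dvd_mul_right (index_dvd_of_le hle) _).trans hdvd'
  by_cases ht1 : 1 < t
  · exact conn_of_dvd ha hmem' ht1 hta htb
  have htpos : t ≠ 0 := fun h0 => hra (by
    rw [h0] at hta
    rw [zero_dvd_iff.1 hta]
    exact dvd_zero r)
  obtain ⟨hi0, hd1⟩ := mul_eq_one.1 (show t = 1 by omega)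
  obtain ⟨α, n, hα, hαn, hn⟩ := hlin hd1
  subst hα
  have hinv : ∀ g, g ∈ inertia N (lin α) := fun g => by rw [index_eq_one.1 hi0]; exact mem_top g
  have hα1 : α ≠ 1 := fun h => h01 (by rw [h]; rfl)
  -- `α` kills both degrees
  have kill : ∀ {l : N →* ℂˣ} {χ : Cfsg.IrrCharacter G}, RP r l →
      Above N (χ : G → ℂ) (lin (l * α)) → α ^ deg (χ : G → ℂ) = 1 := by
    intro l χ hl hab
    obtain ⟨k, hk⟩ := hl
    obtain ⟨e, he, hde⟩ := restrict_eq (isIrrCharacter_linear (l * α)) hab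
    have hd1' : deg (lin (l * α)) = 1 := by
      show deg (fun x : N => ((l * α) x : ℂ)) = 1
      simp [deg]
    have hval : ∀ y : N, (χ : G → ℂ) ((y ^ r ^ k : N) : G) =
        (deg (χ : G → ℂ) : ℂ) * (α (y ^ r ^ k) : ℂ) := by
      intro y
      have h1 : (χ : G → ℂ) ((y ^ r ^ k : N) : G) = (e : ℂ) * orbSum N (lin (l * α)) (y ^ r ^ k) :=
        congrFun he (y ^ r ^ k)
      have h2 : orbSum N (lin (l * α)) (y ^ r ^ k) =
          ((conjOrbit N (lin (l * α))).card : ℂ) * (α (y ^ r ^ k) : ℂ) := by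
        rw [orbSum, Finset.sum_apply, Finset.sum_congr rfl (g := fun _ => (α (y ^ r ^ k) : ℂ))
          fun ψ hψ => ?_, Finset.sum_const, nsmul_eq_mul]
        obtain ⟨g, rfl⟩ := (mem_conjOrbit N).1 hψ
        rw [conjN_eq_comp]
        show (((l * α) (MulAut.conjNormal g (y ^ r ^ k)) : ℂˣ) : ℂ) = _
        have h3 : l (MulAut.conjNormal g (y ^ r ^ k)) = 1 := by
          rw [map_pow, map_pow]
          exact DFunLike.congr_fun hk _
        have h4 := congrFun (mem_inertia.1 (hinv g)) (y ^ r ^ k)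
        rw [conjN_eq_comp] at h4
        rw [MonoidHom.mul_apply, h3, one_mul]
        exact h4
      change deg (χ : G → ℂ) = e * ((inertia N (lin (l * α))).index * deg (lin (l * α))) at hde
      rw [h1, h2, card_orbit_eq_index, hde, hd1']
      push_cast
      ring
    have h5 : (α ^ deg (χ : G → ℂ)) ^ r ^ k = 1 := MonoidHom.ext fun y => by
      rw [MonoidHom.pow_apply, MonoidHom.pow_apply, MonoidHom.one_apply]
      have h6 := pow_deg_eq_one hNG χ (y ^ r ^ k) (α (y ^ r ^ k)) fun z => by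
        have h7 := hval (y ^ z)
        have h8 : (y ^ z) ^ r ^ k = (y ^ r ^ k) ^ z := by
          rw [← zpow_natCast, ← zpow_natCast, ← zpow_mul, ← zpow_mul, mul_comm]
        rw [h8, SubgroupClass.coe_zpow] at h7
        rw [h7, map_zpow]
      rw [map_pow, ← pow_mul, mul_comm, pow_mul] at h6
      exact h6
    have h9 : orderOf (α ^ deg (χ : G → ℂ)) ∣ 1 := by
      rw [← (hn.pow_left k : (r ^ k).Coprime n)]
      exact Nat.dvd_gcd (orderOf_dvd_of_pow_eq_one (G := N →* ℂˣ) h5) (orderOf_dvd_of_pow_eq_one (G := N →* ℂˣ)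
        (pow_right_comm' (M := N →* ℂˣ) hαn _))
    rwa [Nat.dvd_one, orderOf_eq_one_iff] at h9
  have hka : α ^ deg (χ : G → ℂ) = 1 := kill hμ (by rw [lin_mul]; exact hθeq ▸ hc)
  have hkb : α ^ deg (χ' : G → ℂ) = 1 := kill hν (by rw [lin_mul]; exact hc')
  refine conn_of_dvd ha hmem' ?_ (orderOf_dvd_of_pow_eq_one (G := N →* ℂˣ) hka) (orderOf_dvd_of_pow_eq_one (G := N →* ℂˣ) hkb)
  have h0 : orderOf α ≠ 0 := fun h0 => by
    have := orderOf_dvd_of_pow_eq_one (G := N →* ℂˣ) hka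
    rw [h0, zero_dvd_iff] at this
    exact hra (this ▸ dvd_zero r)
  have h1 : orderOf α ≠ 1 := fun h1 => hα1 (orderOf_eq_one_iff.1 h1)
  omega

end Cfsg.Lib.RelGraph
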