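import Mathlib
import Cfsg.Agent.Blocks.RelGraph.Main

/-!
# Two components
-/

set_option autoImplicit false
set_option linter.unusedSectionVars false
set_option linter.style.haveILetI false

namespace Cfsg.Lib.RelGraph

open Cfsg.Lib.Chars Cfsg.Lib.Blocks Subgroup
open Cfsg.Lib.Palfy (dualAct mem_inertia_iff_dual)

universe u

theorem commGroup_exists_order {M : Type*} [CommGroup M] [Finite M] {r : ℕ} [Fact r.Prime]
    (h : r ∣ Nat.card M) : ∃ l : M, l ≠ 1 ∧ l ^ r = 1 := by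
  obtain ⟨l, hl⟩ := exists_prime_orderOf_dvd_card' r h
  refine ⟨l, fun h1 => ?_, hl ▸ pow_orderOf_eq_one l⟩
  rw [h1, orderOf_one] at hl
  exact (Fact.out : r.Prime).ne_one hl.symm

theorem exists_order_pow {M : Type*} [CommGroup M] {r : ℕ} [hr : Fact r.Prime] {l : M} {k : ℕ}
    (hk : l ^ r ^ k = 1) (hl : l ≠ 1) : ∃ m : ℕ, l ^ m ≠ 1 ∧ (l ^ m) ^ r = 1 := by
  obtain ⟨j, -, hj⟩ := (Nat.dvd_prime_pow hr.out).1 (orderOf_dvd_of_pow_eq_one hk)
  obtain ⟨i, rfl⟩ : ∃ i, j = i + 1 := by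
    refine ⟨j - 1, ?_⟩
    have : j ≠ 0 := fun h0 => hl (orderOf_eq_one_iff.1 (by rw [hj, h0, pow_zero]))
    omega
  refine ⟨r ^ i, fun h1 => ?_, ?_⟩
  · have h2 := orderOf_dvd_of_pow_eq_one h1
    rw [hj, Nat.pow_dvd_pow_iff_le_right hr.out.one_lt] at h2
    omega
  · rw [← pow_mul, ← pow_succ, ← hj, pow_orderOf_eq_one]

variable {G : Type u} [Group G] [Finite G]

/-- A subgroup of prime exponent of a commutative group fixed by a Sylow subgroup. -/
theorem exists_fixed {M : Type*} [CommGroup M] [Finite M] (act : G →* MulAut M) {r : ℕ}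
    [hr : Fact r.Prime] (h : ∃ l : M, l ≠ 1 ∧ l ^ r = 1) (R : Sylow r G) :
    ∃ l : M, l ≠ 1 ∧ l ^ r = 1 ∧ ∀ g ∈ (R : Subgroup G), act g l = l := by
  classical
  obtain ⟨l₀, hl0, hl0r⟩ := h
  let U : Subgroup M := (powMonoidHom r : M →* M).ker
  have hst : ∀ (g : (R : Subgroup G)) (u : U), act (g : G) (u : M) ∈ U := fun g u => by
    show (act (g : G) (u : M)) ^ r = 1
    rw [← map_pow, show (u : M) ^ r = 1 from u.2, map_one]
  letI : MulAction (R : Subgroup G) U :=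
    { smul := fun g u => ⟨act (g : G) (u : M), hst g u⟩
      one_smul := fun u => Subtype.ext (by
        show act ((1 : (R : Subgroup G)) : G) (u : M) = u
        rw [OneMemClass.coe_one, map_one]; rfl)
      mul_smul := fun g k u => Subtype.ext (by
        show act ((g * k : (R : Subgroup G)) : G) (u : M) = act (g : G) (act (k : G) (u : M))
        rw [Subgroup.coe_mul, map_mul]; rfl) }
  have hU : IsPGroup r U := IsPGroup.iff_orderOf.2 fun u => by
    obtain ⟨j, -, hj⟩ := (Nat.dvd_prime_pow hr.out).1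
      (show orderOf u ∣ r ^ 1 by rw [pow_one]; exact orderOf_dvd_of_pow_eq_one (Subtype.ext u.2))
    exact ⟨j, hj⟩
  have hdvd : r ∣ Nat.card U := by
    rcases hU.card_eq_or_dvd with h1 | h1
    · exfalso
      have : (⟨l₀, hl0r⟩ : U) = 1 := by
        haveI := (Nat.card_eq_one_iff_unique.1 h1).1
        exact Subsingleton.elim _ _
      exact hl0 (congrArg Subtype.val this)
    · exact h1
  obtain ⟨u, hu, hu1⟩ := R.isPGroup'.exists_fixed_point_of_prime_dvd_card_of_fixed_point U hdvd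
    (a := 1) (fun g => Subtype.ext (map_one (act (g : G))))
  exact ⟨u, fun h1 => hu1 (Subtype.ext h1).symm, u.2, fun g hg => congrArg Subtype.val (hu ⟨g, hg⟩)⟩

theorem card_dual_eq (N : Subgroup G) : Nat.card (N →* ℂˣ) = (⁅N, N⁆).relIndex N := by
  letI : CommGroup (Abelianization N) := inferInstance
  rw [relIndex, show (⁅N, N⁆).subgroupOf N = _root_.commutator N by
      rw [← Subgroup.map_subtype_commutator, subgroupOf, comap_map_eq_self_of_injective N.subtype_injective],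
    Subgroup.index_eq_card, ← Nat.card_congr (Abelianization.lift (A := ℂˣ)).symm]
  exact Palfy.card_dual (fun a b => mul_comm a b)

variable {N : Subgroup G} [hN : N.Normal] [Fintype G] [Fintype N]

/-- The dichotomy for one prime. -/
theorem dichotomy (hNG : N ≤ _root_.commutator G) {r : ℕ} [hr : Fact r.Prime]
    (hdvd : r ∣ (⁅N, N⁆).relIndex N) :
    (∀ a ∈ Cfsg.relCharDegrees N, ∀ b ∈ Cfsg.relCharDegrees N, Conn N a b) ∨
      ∃ (ν : N →* ℂˣ) (ψ : Cfsg.IrrCharacter G), ν ≠ 1 ∧ ν ^ r = 1 ∧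
        ¬ r ∣ (inertia N (lin ν)).index ∧ NoInv r N ∧ Above N (ψ : G → ℂ) (lin ν) ∧
        ∀ a ∈ Cfsg.relCharDegrees N, ¬ r ∣ a → Conn N a (deg (ψ : G → ℂ)) := by
  classical
  by_cases hno : NoInv r N
  · right
    obtain ⟨R⟩ : Nonempty (Sylow r G) := inferInstance
    obtain ⟨ν, hν1, hνr, hfix⟩ := exists_fixed (M := N →* ℂˣ) (dualAct N)
      (commGroup_exists_order (M := N →* ℂˣ) (card_dual_eq N ▸ hdvd)) R
    have hnd : ¬ r ∣ (inertia N (lin ν)).index := fun h => R.not_dvd_index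
      (h.trans (index_dvd_of_le fun g hg => mem_inertia_lin.2 (hfix g hg)))
    obtain ⟨ψ, hψ⟩ := exists_above (N := N) (isIrrCharacter_linear ν : Cfsg.IsIrrCharacter N (lin ν))
    exact ⟨ν, ψ, hν1, hνr, hnd, hno, hψ,
      fun a ha hra => conn_hub hNG hno ⟨1, by rw [pow_one]; exact hνr⟩ hν1 hnd hψ ha hra⟩
  · left
    simp only [NoInv, not_forall] at hno
    obtain ⟨l, ⟨k, hk⟩, hl, hi⟩ := hno
    have htop : inertia N (lin l) = ⊤ := index_eq_one.1 (by
      have := Nat.pos_of_ne_zero (Subgroup.index_ne_zero_of_finite (H := inertia N (lin l)))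
      omega)
    obtain ⟨m, hm1, hmr⟩ := exists_order_pow (M := N →* ℂˣ) hk hl
    intro a ha b hb
    refine conn_invariant hNG (r := r) hm1 hmr (fun g => ?_) ha hb
    rw [mem_inertia_lin]
    have h1 : dualAct N g l = l := mem_inertia_lin.1 (htop ▸ mem_top g)
    exact (map_pow (G := N →* ℂˣ) (dualAct N g) l m).trans (congrArg (fun z : N →* ℂˣ => z ^ m) h1)

/-- Degrees on the same side of `r` are connected. -/
theorem conn_same_side (hNG : N ≤ _root_.commutator G) {r : ℕ} [hr : Fact r.Prime]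
    (hdvd : r ∣ (⁅N, N⁆).relIndex N) {a b : ℕ} (ha : a ∈ Cfsg.relCharDegrees N)
    (hb : b ∈ Cfsg.relCharDegrees N) (hab : r ∣ a ↔ r ∣ b) : Conn N a b := by
  rcases dichotomy hNG hdvd with h | ⟨ν, ψ, -, -, -, -, -, h⟩
  · exact h a ha b hb
  · by_cases hra : r ∣ a
    · exact conn_of_dvd ha hb hr.out.one_lt hra (hab.1 hra)
    · exact (h a ha hra).trans (h b hb fun hh => hra (hab.2 hh)).symm

/-- Two primes cannot separate crosswise. -/
theorem conn_cross (hNG : N ≤ _root_.commutator G) {r q : ℕ} [hr : Fact r.Prime] [hq : Fact q.Prime]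
    (hrq : r ≠ q) (hdr : r ∣ (⁅N, N⁆).relIndex N) (hdq : q ∣ (⁅N, N⁆).relIndex N) {a b : ℕ}
    (ha : a ∈ Cfsg.relCharDegrees N) (hb : b ∈ Cfsg.relCharDegrees N) (hra : ¬ r ∣ a) (hqb : ¬ q ∣ b) :
    Conn N a b := by
  rcases dichotomy hNG hdr with h | ⟨ν, ψ, hν1, hνr, -, hnoν, hψ, h⟩
  · exact h a ha b hb
  rcases dichotomy hNG hdq with h' | ⟨κ, φ, hκ1, hκq, -, hnoκ, hφ, h'⟩
  · exact h' a ha b hb
  have irr : ∀ l : N →* ℂˣ, Cfsg.IsIrrCharacter N (lin l) := fun l => isIrrCharacter_linear l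
  have hne : ν * κ ≠ 1 := by
    intro h0
    have h1 : κ = ν⁻¹ := (inv_eq_of_mul_eq_one_right (G := N →* ℂˣ) h0).symm
    have h2 : κ ^ r = 1 := by rw [h1]; exact inv_pow_eq_one (M := N →* ℂˣ) (a := ν) hνr
    have h3 : orderOf κ ∣ Nat.gcd r q :=
      Nat.dvd_gcd (orderOf_dvd_of_pow_eq_one (G := N →* ℂˣ) h2)
        (orderOf_dvd_of_pow_eq_one (G := N →* ℂˣ) hκq)
    rw [(Nat.coprime_primes hr.out hq.out).2 hrq, Nat.dvd_one, orderOf_eq_one_iff] at h3
    exact hκ1 h3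
  obtain ⟨χ, hχ⟩ := exists_above (N := N) (irr (ν * κ))
  have hmem := mem_rel (irr (ν * κ)) hχ fun e => hne (lin_injective e)
  have hmemν := mem_rel (irr ν) hψ fun e => hν1 (lin_injective e)
  have hmemκ := mem_rel (irr κ) hφ fun e => hκ1 (lin_injective e)
  have hleft : inertia N (lin (ν * κ)) ≤ inertia N (lin ν) := fun g hg => by
    rw [mem_inertia_lin] at hg ⊢
    refine fix_of_pow (k := r) (m := q) hνr ((Nat.coprime_primes hr.out hq.out).2 hrq) ?_
    have e : (ν * κ) ^ q = ν ^ q :=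
      (mul_pow (M := N →* ℂˣ) ν κ q).trans
        ((congrArg (fun z : N →* ℂˣ => ν ^ q * z) hκq).trans (mul_one (M := N →* ℂˣ) _))
    rw [← e]
    exact (map_pow (G := N →* ℂˣ) (dualAct N g) (ν * κ) q).trans
      (congrArg (fun z : N →* ℂˣ => z ^ q) hg)
  have hright : inertia N (lin (ν * κ)) ≤ inertia N (lin κ) := fun g hg => by
    rw [mem_inertia_lin] at hg ⊢
    refine fix_of_pow (k := q) (m := r) hκq ((Nat.coprime_primes hq.out hr.out).2 hrq.symm) ?_
    have e : (ν * κ) ^ r = κ ^ r :=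
      (mul_pow (M := N →* ℂˣ) ν κ r).trans
        ((congrArg (fun z : N →* ℂˣ => z * κ ^ r) hνr).trans (one_mul (M := N →* ℂˣ) _))
    rw [← e]
    exact (map_pow (G := N →* ℂˣ) (dualAct N g) (ν * κ) r).trans
      (congrArg (fun z : N →* ℂˣ => z ^ r) hg)
  have dv : ∀ {l : N →* ℂˣ} {χ : Cfsg.IrrCharacter G}, Above N (χ : G → ℂ) (lin l) →
      (inertia N (lin l)).index ∣ deg (χ : G → ℂ) := fun {l} {χ} hc =>
    (dvd_mul_right _ _).trans (index_dvd_deg (irr l) hc)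
  have c1 : Conn N (deg (ψ : G → ℂ)) (deg (χ : G → ℂ)) :=
    conn_of_dvd hmemν hmem (hnoν ν ⟨1, by rw [pow_one]; exact hνr⟩ hν1) (dv hψ)
      ((index_dvd_of_le hleft).trans (dv hχ))
  have c2 : Conn N (deg (χ : G → ℂ)) (deg (φ : G → ℂ)) :=
    conn_of_dvd hmem hmemκ (hnoκ κ ⟨1, by rw [pow_one]; exact hκq⟩ hκ1)
      ((index_dvd_of_le hright).trans (dv hχ)) (dv hφ)
  exact (((h a ha hra).trans c1).trans c2).trans (h' b hb hqb).symm

/-- **The relative degree graph.** -/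
theorem rel_graph (hN' : ⁅N, N⁆ < N) (hNG : N ≤ _root_.commutator G) :
    Nat.card (Cfsg.commonDivisorGraph.induce (Cfsg.relCharDegrees N)).ConnectedComponent ≤ 2 ∧
      ∀ (a b : ℕ) (ha : a ∈ Cfsg.relCharDegrees N) (hb : b ∈ Cfsg.relCharDegrees N),
        ¬ (Cfsg.commonDivisorGraph.induce (Cfsg.relCharDegrees N)).Reachable ⟨a, ha⟩ ⟨b, hb⟩ →
          (Nat.Coprime a ((⁅N, N⁆).relIndex N) ∧
              ∀ r : ℕ, r.Prime → r ∣ (⁅N, N⁆).relIndex N → r ∣ b) ∨
            (Nat.Coprime b ((⁅N, N⁆).relIndex N) ∧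
              ∀ r : ℕ, r.Prime → r ∣ (⁅N, N⁆).relIndex N → r ∣ a) := by
  classical
  have hm : (⁅N, N⁆).relIndex N ≠ 1 := fun h => not_le_of_gt hN' (relIndex_eq_one.1 h)
  obtain ⟨r₀, hr₀, hd₀⟩ := Nat.exists_prime_and_dvd hm
  haveI := Fact.mk hr₀
  refine ⟨?_, fun a b ha hb hnr => ?_⟩
  · by_contra hcon
    have hcon' := not_le.1 hcon
    haveI : Finite (Cfsg.commonDivisorGraph.induce (Cfsg.relCharDegrees N)).ConnectedComponent :=
      Nat.finite_of_card_ne_zero (by omega)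
    letI := Fintype.ofFinite (Cfsg.commonDivisorGraph.induce (Cfsg.relCharDegrees N)).ConnectedComponent
    rw [Nat.card_eq_fintype_card, Fintype.two_lt_card_iff] at hcon'
    obtain ⟨A, B, C, hAB, hAC, hBC⟩ := hcon'
    obtain ⟨⟨x, hx⟩, rfl⟩ := A.exists_rep
    obtain ⟨⟨y, hy⟩, rfl⟩ := B.exists_rep
    obtain ⟨⟨z, hz⟩, rfl⟩ := C.exists_rep
    have key : ∀ {x y : ℕ} (hx : x ∈ Cfsg.relCharDegrees N) (hy : y ∈ Cfsg.relCharDegrees N),
        (Cfsg.commonDivisorGraph.induce (Cfsg.relCharDegrees N)).connectedComponentMk ⟨x, hx⟩ ≠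
          (Cfsg.commonDivisorGraph.induce (Cfsg.relCharDegrees N)).connectedComponentMk ⟨y, hy⟩ →
        ¬ (r₀ ∣ x ↔ r₀ ∣ y) := fun hx hy hne h => by
      obtain ⟨_, _, hreach⟩ := conn_same_side hNG hd₀ hx hy h
      exact hne (SimpleGraph.ConnectedComponent.sound hreach)
    have h1 := key hx hy hAB
    have h2 := key hx hz hAC
    have h3 := key hy hz hBC
    tauto
  · have hncon : ¬ Conn N a b := fun ⟨_, _, h⟩ => hnr h
    have hsep : ∀ r : ℕ, r.Prime → r ∣ (⁅N, N⁆).relIndex N → ¬ (r ∣ a ↔ r ∣ b) := fun r hr hd h => by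
      haveI := Fact.mk hr
      exact hncon (conn_same_side hNG hd ha hb h)
    by_cases hA : ∀ r : ℕ, r.Prime → r ∣ (⁅N, N⁆).relIndex N → r ∣ a
    · refine Or.inr ⟨Nat.coprime_of_dvd fun r hr hrb hrm => ?_, hA⟩
      exact hsep r hr hrm ⟨fun _ => hrb, fun _ => hA r hr hrm⟩
    push Not at hA
    obtain ⟨r, hr, hrm, hra⟩ := hA
    haveI := Fact.mk hr
    have hB : ∀ q : ℕ, q.Prime → q ∣ (⁅N, N⁆).relIndex N → q ∣ b := by
      intro q hq hqm
      by_contra hqb
      by_cases e : r = q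
      · subst e
        exact hsep r hr hrm ⟨fun h => absurd h hra, fun h => absurd h hqb⟩
      · haveI := Fact.mk hq
        exact hncon (conn_cross hNG e hrm hqm ha hb hra hqb)
    refine Or.inl ⟨Nat.coprime_of_dvd fun q hq hqa hqm => ?_, hB⟩
    exact hsep q hq hqm ⟨fun _ => hB q hq hqm, fun _ => hqa⟩

end Cfsg.Lib.RelGraph
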