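import Cfsg.Agent.Blocks.RelGraph.Final
import Cfsg.Agent.Chars.Berger
import Cfsg.Agent.Chars.DegreeTools

/-!
# The shape of a disconnected relative degree graph
-/

set_option autoImplicit false
set_option linter.unusedSectionVars false

namespace Cfsg.Lib.RelGraph

open Cfsg.Lib.Chars Cfsg.Lib.Blocks Subgroup
open Cfsg.Lib.Palfy (dualAct mem_inertia_iff_dual stab mem_commutator_of_forall instFiniteHom)

universe u

variable {G : Type u} [Group G] [Fintype G] {N : Subgroup G} [N.Normal] [Fintype N]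

/-- Two good characters of coprime indices have a product sharing with both. -/
theorem share_good {r : ℕ} [hr : Fact r.Prime] (hno : NoInv r N) {a b : N →* ℂˣ} (ha : RP r a)
    (hb : RP r b) (ha1 : a ≠ 1) (hb1 : b ≠ 1) (har : ¬ r ∣ (inertia N (lin a)).index)
    (hbr : ¬ r ∣ (inertia N (lin b)).index)
    (hco : (inertia N (lin a)).index.Coprime (inertia N (lin b)).index) :
    ∃ c : N →* ℂˣ, c ≠ 1 ∧ ¬ (inertia N (lin c)).index.Coprime (inertia N (lin a)).index ∧
      ¬ (inertia N (lin c)).index.Coprime (inertia N (lin b)).index := by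
  have hc1 : a * b ≠ 1 := by
    intro h0
    have hsame : inertia N (lin b) = inertia N (lin a) := by
      have hb' : b = a⁻¹ := (inv_eq_of_mul_eq_one_right (G := N →* ℂˣ) h0).symm
      ext g
      rw [mem_inertia_lin, mem_inertia_lin, hb']
      constructor
      · intro hg
        have := (map_inv (G := N →* ℂˣ) (dualAct N g) a).symm.trans hg
        exact inv_injective this
      · intro hg
        exact (map_inv (G := N →* ℂˣ) (dualAct N g) a).trans (congrArg (fun z : N →* ℂˣ => z⁻¹) hg)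
    rw [hsame] at hco
    exact absurd ((Nat.coprime_self _).1 hco) (hno a ha ha1).ne'
  obtain ⟨hdiv, hkey⟩ := index_pair (r := r) (inf_le_mul a b) hco
  obtain ⟨-, hkey'⟩ := index_pair (r := r) (a := b) (b := a) (c := a * b)
    (by rw [inf_comm]; exact inf_le_mul a b) hco.symm
  have hc0 := hno (a * b) (ha.mul hb) hc1
  set sa := (inertia N (lin a)).index
  set sb := (inertia N (lin b)).index
  set sc := (inertia N (lin (a * b))).index with hsc
  -- the third index shares with both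
  have hshare : ∀ {x y : N →* ℂˣ}, RP r y → y ≠ 1 → x * y = a * b →
      (inertia N (lin x)).index.Coprime (inertia N (lin y)).index →
      ¬ r ∣ (inertia N (lin x)).index →
      sc ∣ (inertia N (lin x)).index * (inertia N (lin y)).index →
      sc.Coprime (inertia N (lin y)).index →
      (sc = (inertia N (lin x)).index → r ∣ (inertia N (lin x)).index) → False := by
    intro x y hy hy1 hxy hxyc hxr hd hcy hk
    refine hxr (hk (Nat.dvd_antisymm (hcy.dvd_of_dvd_mul_right hd) ?_))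
    have hle : inertia N (lin (a * b)) ⊓ inertia N (lin y) ≤ inertia N (lin x) := fun g hg => by
      rw [mem_inertia_lin]
      have e : x = (a * b) * y⁻¹ := by rw [← hxy]; exact (mul_inv_cancel_right x y).symm
      rw [e]
      exact (map_mul (dualAct N g) (a * b) y⁻¹).trans (congrArg₂ (fun u v : N →* ℂˣ => u * v)
        (mem_inertia_lin.1 hg.1) ((map_inv (G := N →* ℂˣ) (dualAct N g) y).trans
          (congrArg (fun z : N →* ℂˣ => z⁻¹) (mem_inertia_lin.1 hg.2))))
    exact hxyc.dvd_of_dvd_mul_right (index_pair (r := r) hle hcy).1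
  have hna : ¬ sc.Coprime sb := fun hcy =>
    hshare hb hb1 rfl hco har hdiv hcy fun e => hkey rfl e hb1 hb (hno b hb hb1)
  have hnb : ¬ sc.Coprime sa := fun hcx =>
    hshare ha ha1 (mul_comm b a) hco.symm hbr (by rw [mul_comm]; exact hdiv) hcx
      fun e => hkey' (mul_comm a b) e ha1 ha (hno a ha ha1)
  exact ⟨a * b, hc1, hnb, hna⟩

/-- At distance at most two in the graph. -/
def Near (N : Subgroup G) (a b : ℕ) : Prop :=
  a = b ∨ ¬ a.Coprime b ∨ ∃ d ∈ Cfsg.relCharDegrees N, ¬ a.Coprime d ∧ ¬ b.Coprime d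

theorem not_coprime_of_dvd {a b d : ℕ} (hd : d ≠ 1) (h1 : d ∣ a) (h2 : d ∣ b) : ¬ a.Coprime b := fun h =>
  hd (Nat.eq_one_of_dvd_coprimes h h1 h2)

theorem noInv_of_not_conn (hNG : N ≤ _root_.commutator G) {r : ℕ} [Fact r.Prime]
    (hdvd : r ∣ (⁅N, N⁆).relIndex N) {a c : ℕ} (ha : a ∈ Cfsg.relCharDegrees N)
    (hc : c ∈ Cfsg.relCharDegrees N) (hac : ¬ Conn N a c) : NoInv r N := by
  rcases dichotomy hNG hdvd with h | ⟨_, _, -, -, -, h, -, -⟩
  · exact absurd (h a ha c hc) hac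
  · exact h

/-- A linear character of prime order below a linear constituent. -/
theorem exists_prime_part {α : N →* ℂˣ} (hα : α ≠ 1) :
    ∃ (q : ℕ) (l : N →* ℂˣ), q.Prime ∧ q ∣ (⁅N, N⁆).relIndex N ∧ l ≠ 1 ∧ l ^ q = 1 ∧
      inertia N (lin α) ≤ inertia N (lin l) := by
  classical
  set n := orderOf α with hn
  have hn1 : n ≠ 1 := fun h => hα (orderOf_eq_one_iff.1 h)
  set q := n.minFac with hq
  have hqp : q.Prime := Nat.minFac_prime hn1
  have hn0 : n ≠ 0 := (IsOfFinOrder.orderOf_pos (isOfFinOrder_of_finite α)).ne'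
  obtain ⟨k, hk⟩ : q ∣ n := Nat.minFac_dvd n
  have hk0 : k ≠ 0 := fun h => hn0 (by rw [hk, h, mul_zero])
  refine ⟨q, α ^ k, hqp, ?_, ?_, ?_, fun g hg => ?_⟩
  · rw [← card_dual_eq N]
    exact (Nat.minFac_dvd n).trans (orderOf_dvd_natCard (G := N →* ℂˣ) α)
  · intro h
    have h1 : n ∣ k := orderOf_dvd_of_pow_eq_one (G := N →* ℂˣ) h
    have h2 := Nat.le_of_dvd (Nat.pos_of_ne_zero hk0) h1
    have h3 : 2 * k ≤ q * k := Nat.mul_le_mul_right k hqp.two_le
    omega
  · have h1 : (α ^ k) ^ q = α ^ (k * q) := (pow_mul (M := N →* ℂˣ) α k q).symm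
    rw [h1, mul_comm, ← hk, hn]
    exact pow_orderOf_eq_one (G := N →* ℂˣ) α
  · rw [mem_inertia_lin] at hg ⊢
    exact (map_pow (G := N →* ℂˣ) (dualAct N g) α k).trans (congrArg (fun z : N →* ℂˣ => z ^ k) hg)

section Cases

variable (hNG : N ≤ _root_.commutator G) {a b c : ℕ} (ha : a ∈ Cfsg.relCharDegrees N)
  (hb : b ∈ Cfsg.relCharDegrees N) (hc : c ∈ Cfsg.relCharDegrees N) (hac : ¬ Conn N a c)
  (ham : a.Coprime ((⁅N, N⁆).relIndex N)) (hbm : b.Coprime ((⁅N, N⁆).relIndex N))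

include hNG ha hb hc hac ham hbm

/-- Two degrees over linear characters. -/
theorem near_linear {α β : N →* ℂˣ} (hα : α ≠ 1) (hβ : β ≠ 1)
    (hαd : (inertia N (lin α)).index ∣ a) (hβd : (inertia N (lin β)).index ∣ b) : Near N a b := by
  classical
  obtain ⟨q, l, hq, hqm, hl1, hlq, hlα⟩ := exists_prime_part hα
  obtain ⟨q', l', hq', hqm', hl1', hlq', hlβ⟩ := exists_prime_part hβ
  haveI := Fact.mk hq
  haveI := Fact.mk hq'
  have hno := noInv_of_not_conn hNG hqm ha hc hac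
  have hno' := noInv_of_not_conn hNG hqm' ha hc hac
  have hla : (inertia N (lin l)).index ∣ a := (index_dvd_of_le hlα).trans hαd
  have hlb : (inertia N (lin l')).index ∣ b := (index_dvd_of_le hlβ).trans hβd
  have hs := hno l ⟨1, by rw [pow_one]; exact hlq⟩ hl1
  have hs' := hno' l' ⟨1, by rw [pow_one]; exact hlq'⟩ hl1'
  have mem : ∀ {ν : N →* ℂˣ}, ν ≠ 1 → ∃ d ∈ Cfsg.relCharDegrees N, (inertia N (lin ν)).index ∣ d := by
    intro ν hν
    obtain ⟨χ, hχ⟩ := exists_above (N := N) (isIrrCharacter_linear ν : Cfsg.IsIrrCharacter N (lin ν))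
    exact ⟨_, mem_rel (isIrrCharacter_linear ν : Cfsg.IsIrrCharacter N (lin ν)) hχ
      (fun e => hν (lin_injective e)),
      (dvd_mul_right _ _).trans (index_dvd_deg (isIrrCharacter_linear ν : Cfsg.IsIrrCharacter N (lin ν)) hχ)⟩
  by_cases hco : (inertia N (lin l)).index.Coprime (inertia N (lin l')).index
  swap
  · exact Or.inr (Or.inl fun h => hco ((h.coprime_dvd_left hla).coprime_dvd_right hlb))
  refine Or.inr (Or.inr ?_)
  by_cases hqq : q = q'
  · subst hqq
    obtain ⟨ν, hν, h1, h2⟩ := share_good hno ⟨1, by rw [pow_one]; exact hlq⟩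
      ⟨1, by rw [pow_one]; exact hlq'⟩ hl1 hl1'
      (fun h => hq.one_lt.ne' (Nat.eq_one_of_dvd_coprimes ham (h.trans hla) hqm))
      (fun h => hq.one_lt.ne' (Nat.eq_one_of_dvd_coprimes hbm (h.trans hlb) hqm)) hco
    obtain ⟨d, hd, hdd⟩ := mem hν
    exact ⟨d, hd, fun h => h1 ((h.symm.coprime_dvd_left hdd).coprime_dvd_right hla),
      fun h => h2 ((h.symm.coprime_dvd_left hdd).coprime_dvd_right hlb)⟩
  · have hcp : q.Coprime q' := (Nat.coprime_primes hq hq').2 hqq
    have hleft : inertia N (lin (l * l')) ≤ inertia N (lin l) := fun g hg => by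
      rw [mem_inertia_lin] at hg ⊢
      refine fix_of_pow (k := q) (m := q') hlq hcp ?_
      have e : (l * l') ^ q' = l ^ q' :=
        (mul_pow (M := N →* ℂˣ) l l' q').trans
          ((congrArg (fun z : N →* ℂˣ => l ^ q' * z) hlq').trans (mul_one (M := N →* ℂˣ) _))
      rw [← e]
      exact (map_pow (G := N →* ℂˣ) (dualAct N g) (l * l') q').trans
        (congrArg (fun z : N →* ℂˣ => z ^ q') hg)
    have hright : inertia N (lin (l * l')) ≤ inertia N (lin l') := fun g hg => by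
      rw [mem_inertia_lin] at hg ⊢
      refine fix_of_pow (k := q') (m := q) hlq' hcp.symm ?_
      have e : (l * l') ^ q = l' ^ q :=
        (mul_pow (M := N →* ℂˣ) l l' q).trans
          ((congrArg (fun z : N →* ℂˣ => z * l' ^ q) hlq).trans (one_mul (M := N →* ℂˣ) _))
      rw [← e]
      exact (map_pow (G := N →* ℂˣ) (dualAct N g) (l * l') q).trans
        (congrArg (fun z : N →* ℂˣ => z ^ q) hg)
    have hne : l * l' ≠ 1 := fun h0 => by
      have h1 : inertia N (lin l) = ⊤ := top_le_iff.1 ((le_of_eq (by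
        rw [h0]
        ext g
        rw [mem_inertia_lin]
        exact ⟨fun _ => map_one (dualAct N g), fun _ => mem_top g⟩ :
          ⊤ = inertia N (lin (l * l')))).trans hleft)
      rw [h1, Subgroup.index_top] at hs
      exact lt_irrefl 1 hs
    obtain ⟨d, hd, hdd⟩ := mem hne
    exact ⟨d, hd, not_coprime_of_dvd hs.ne' hla ((index_dvd_of_le hleft).trans hdd),
      not_coprime_of_dvd hs'.ne' hlb ((index_dvd_of_le hright).trans hdd)⟩

omit hb in
/-- One degree over a linear, one over a non-linear character. -/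
theorem near_mixed {θ : N → ℂ} (hθ : Cfsg.IsIrrCharacter N θ) (hθ1 : deg θ ≠ 1) (hθa : deg θ ∣ a)
    {β : N →* ℂˣ} (hβ : β ≠ 1) (hβd : (inertia N (lin β)).index ∣ b) : Near N a b := by
  classical
  obtain ⟨q, l, hq, hqm, hl1, hlq, hlβ⟩ := exists_prime_part hβ
  haveI := Fact.mk hq
  have hno := noInv_of_not_conn hNG hqm ha hc hac
  have hlb : (inertia N (lin l)).index ∣ b := (index_dvd_of_le hlβ).trans hβd
  have hs := hno l ⟨1, by rw [pow_one]; exact hlq⟩ hl1
  have hd : ¬ q ∣ deg θ := fun h => hq.one_lt.ne' (Nat.eq_one_of_dvd_coprimes ham (h.trans hθa) hqm)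
  obtain ⟨μ, θ₀, -, hθ₀, -, hdeg, -, hsep, -⟩ := decomp (r := q) hθ hd
  have hirr : Cfsg.IsIrrCharacter N (lin l * θ₀) := IsIrrCharacter.mul_linear hθ₀ l
  have hdeg' : deg (lin l * θ₀) = deg θ := by
    rw [← hdeg]
    apply Nat.cast_injective (R := ℂ)
    rw [← irr_apply_one_eq_deg ⟨_, hirr⟩, ← irr_apply_one_eq_deg ⟨θ₀, hθ₀⟩]
    show ((l 1 : ℂˣ) : ℂ) * θ₀ 1 = θ₀ 1
    rw [map_one, Units.val_one, one_mul]
  obtain ⟨χ, hχ⟩ := exists_above hirr
  have hdvd := index_dvd_deg hirr hχ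
  rw [hdeg'] at hdvd
  have hne : lin l * θ₀ ≠ fun _ => 1 := fun e => hθ1 (by
    rw [← hdeg']
    apply Nat.cast_injective (R := ℂ)
    rw [← irr_apply_one_eq_deg ⟨_, hirr⟩, Nat.cast_one]
    show (lin l * θ₀) 1 = 1
    rw [e])
  refine Or.inr (Or.inr ⟨_, mem_rel hirr hχ hne,
    not_coprime_of_dvd hθ1 hθa ((dvd_mul_left _ _).trans hdvd), not_coprime_of_dvd hs.ne' hlb ?_⟩)
  exact dvd_trans (index_dvd_of_le fun g hg => (hsep l g ⟨1, by rw [pow_one]; exact hlq⟩ hg).2)
    ((dvd_mul_right _ _).trans hdvd)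

end Cases

/-- The derived subgroup sees a degree sharing a prime with the index. -/
theorem exists_derived_degree [Group.IsSolvable N] (hN : ⁅N, N⁆ ≠ ⊥) :
    ∃ c' ∈ Cfsg.relCharDegrees (⁅N, N⁆), ¬ c'.Coprime ((⁅N, N⁆).relIndex N) := by
  classical
  set M := ⁅N, N⁆ with hM
  have hMN : M ≤ N := Subgroup.commutator_le_self N
  letI := Fintype.ofFinite M
  haveI : Group.IsSolvable M :=
    Group.isSolvable_of_isSolvable_injective (Subgroup.inclusion_injective hMN)
  haveI : Nontrivial M := (Subgroup.nontrivial_iff_ne_bot M).2 hN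
  obtain ⟨φ, hφ⟩ : ∃ φ : M →* ℂˣ, φ ≠ 1 := by
    by_contra hall
    push Not at hall
    refine (Group.IsSolvable.commutator_lt_top_of_nontrivial (G := M)).ne (eq_top_iff.2 fun x _ => ?_)
    exact mem_commutator_of_forall fun f => by rw [hall f, MonoidHom.one_apply]
  have hirr : Cfsg.IsIrrCharacter M (lin φ) := isIrrCharacter_linear φ
  obtain ⟨χ, hχ⟩ := exists_above (N := M) hirr
  refine ⟨_, mem_rel hirr hχ fun e => hφ (lin_injective e), fun hcop => ?_⟩
  obtain ⟨ψ, hψ, h1, h2⟩ := exists_constituent_over N hMN (isCharacter_of_irr χ.2) hχ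
  have hψd : deg ψ ∣ deg (χ : G → ℂ) := (dvd_mul_left _ _).trans (index_dvd_deg hψ h1)
  set M' := M.subgroupOf N with hM'
  haveI : M'.Normal := Subgroup.normal_subgroupOf
  letI := Fintype.ofFinite M'
  set e := Subgroup.subgroupOfEquivOfLe hMN
  have h2' : Cfsg.classInner (fun x : M' => ψ x) (fun x : M' => lin φ (e x)) ≠ 0 := by
    intro h0
    refine h2 ?_
    rw [← classInner_comp_equiv e.toEquiv, ← h0]
    congr 1
  obtain ⟨m, hm, hmd⟩ := deg_over M' hψ (IsIrrCharacter.comp_mulEquiv hirr e) h2'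
  have hdφ : deg (fun x : M' => lin φ (e x)) = 1 := by simp [deg, lin]
  rw [hdφ, mul_one] at hm
  have hψ1 : deg ψ = 1 := by
    refine Nat.eq_one_of_dvd_coprimes hcop hψd ?_
    rw [hm]
    exact hmd
  obtain ⟨f, rfl⟩ := exists_hom_of_deg_one (isCharacter_of_irr hψ)
    ((irr_apply_one_eq_deg ⟨ψ, hψ⟩).trans (by show (deg ψ : ℂ) = 1; rw [hψ1, Nat.cast_one]))
  refine hφ (MonoidHom.ext fun x => ?_)
  have hker : ∀ y : M, f ⟨y, hMN y.2⟩ = 1 := fun y => Abelianization.commutator_subset_ker f (by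
    obtain ⟨z, hz, hzy⟩ : (y : G) ∈ (_root_.commutator N).map N.subtype := by
      rw [Subgroup.map_subtype_commutator]; exact y.2
    rwa [show (⟨y, hMN y.2⟩ : N) = z from Subtype.ext hzy.symm])
  have h3 : Cfsg.classInner (lin (1 : M →* ℂˣ)) (lin φ) ≠ 0 := by
    rw [lin_one]
    convert h2 using 2
    funext y
    simp [hker y]
  by_contra hne
  exact h3 ((classInner_irrChar (G := M) (χ := lin (1 : M →* ℂˣ)) (ψ := lin φ)
    (isIrrCharacter_linear (1 : M →* ℂˣ)) hirr).trans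
    (if_neg fun e' => hne (by rw [← lin_injective e'])))

/-- A constituent of a character trivial on the derived subgroup is linear. -/
theorem deg_eq_one_of_trivial_on_derived {ξ : N → ℂ} (hξ : Cfsg.IsIrrCharacter N ξ)
    {ω : Cfsg.IrrCharacter G} (hab : Above N (ω : G → ℂ) ξ)
    (hall : ∀ x ∈ ⁅N, N⁆, (ω : G → ℂ) x = (ω : G → ℂ) 1) : deg ξ = 1 := by
  classical
  set M := ⁅N, N⁆ with hM
  have hMN : M ≤ N := Subgroup.commutator_le_self N
  have hval : ∀ x : N, (x : G) ∈ M → ξ x = ξ 1 := fun x hx => by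
    have h1 := eq_mul_of_constituent (IsCharacter.restrict (isCharacter_of_irr ω.2) N) hξ hab
      (g := x) (ω := 1) norm_one (by rw [mul_one]; exact hall x hx)
    rwa [mul_one] at h1
  obtain ⟨n, ρ, hρ, rfl⟩ := hξ
  haveI := hρ
  haveI := nontrivial_of_irreducible ρ
  refine deg_one_of_norm_eq ⟨n, ρ, hρ, rfl⟩ fun g => ?_
  have hcomm : ∀ h v, ρ g (ρ h v) = ρ h (ρ g v) := by
    intro h v
    have hm : ((g⁻¹ * h⁻¹ * g * h : N) : G) ∈ M := by
      have := Subgroup.commutator_mem_commutator (N.inv_mem g.2) (N.inv_mem h.2)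
      simpa [commutatorElement_def, mul_assoc] using this
    have h2 := (eq_id_of_character_eq_finrank ρ _).1 ((hval _ hm).trans ρ.char_one)
    calc ρ g (ρ h v) = ρ (g * h) v := by rw [map_mul]; rfl
      _ = ρ (h * g * (g⁻¹ * h⁻¹ * g * h)) v := by
          rw [show h * g * (g⁻¹ * h⁻¹ * g * h) = g * h by group]
      _ = ρ h (ρ g v) := by rw [map_mul, map_mul, h2]; rfl
  obtain ⟨c, hc⟩ := schur_scalar ρ (ρ g) hcomm
  rw [norm_character_of_scalar ρ hc, deg_character]

/-- **Distance two on the coprime side.** -/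
theorem near_of_coprime : ∀ (n : ℕ) (N : Subgroup G) [N.Normal] [Fintype N] [Group.IsSolvable N],
    Nat.card N = n → N ≤ _root_.commutator G →
    ∀ a ∈ Cfsg.relCharDegrees N, ∀ b ∈ Cfsg.relCharDegrees N, ∀ c ∈ Cfsg.relCharDegrees N,
      a.Coprime ((⁅N, N⁆).relIndex N) → b.Coprime ((⁅N, N⁆).relIndex N) →
      ¬ c.Coprime ((⁅N, N⁆).relIndex N) → ¬ Conn N a c → Near N a b := by
  intro n
  induction n using Nat.strong_induction_on with
  | _ n ih =>
  intro N _ _ _ hn hNG a ha b hb c hc ham hbm hcm hac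
  classical
  obtain ⟨χ, θ, hθ, hcθ, hθ1, hdeg⟩ := exists_of_rel ha
  obtain ⟨χ', θ', hθ', hcθ', hθ1', hdeg'⟩ := exists_of_rel hb
  have hbc : ¬ Conn N b c := fun h => by
    obtain ⟨r, hr, hrc, hrm⟩ := Nat.Prime.not_coprime_iff_dvd.1 hcm
    haveI := Fact.mk hr
    refine hac ((conn_same_side hNG hrm ha hb ?_).trans h)
    exact ⟨fun h => absurd (Nat.eq_one_of_dvd_coprimes ham h hrm) hr.one_lt.ne',
      fun h => absurd (Nat.eq_one_of_dvd_coprimes hbm h hrm) hr.one_lt.ne'⟩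
  have hda : (inertia N θ).index ∣ a ∧ deg θ ∣ a :=
    hdeg ▸ ⟨(dvd_mul_right _ _).trans (index_dvd_deg hθ hcθ), (dvd_mul_left _ _).trans (index_dvd_deg hθ hcθ)⟩
  have hdb : (inertia N θ').index ∣ b ∧ deg θ' ∣ b :=
    hdeg' ▸ ⟨(dvd_mul_right _ _).trans (index_dvd_deg hθ' hcθ'), (dvd_mul_left _ _).trans (index_dvd_deg hθ' hcθ')⟩
  have linear : ∀ {ξ : N → ℂ}, Cfsg.IsIrrCharacter N ξ → deg ξ = 1 → (ξ ≠ fun _ => 1) →
      ∃ f : N →* ℂˣ, ξ = lin f ∧ f ≠ 1 := by
    intro ξ hξ h1 hne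
    obtain ⟨f, hf⟩ := exists_hom_of_deg_one (isCharacter_of_irr hξ)
      ((irr_apply_one_eq_deg ⟨ξ, hξ⟩).trans (by show (deg ξ : ℂ) = 1; rw [h1, Nat.cast_one]))
    exact ⟨f, hf, fun e => hne (by rw [hf, e]; rfl)⟩
  by_cases h1 : deg θ = 1
  · obtain ⟨α, rfl, hα⟩ := linear hθ h1 hθ1
    by_cases h2 : deg θ' = 1
    · obtain ⟨β, rfl, hβ⟩ := linear hθ' h2 hθ1'
      exact near_linear hNG ha hb hc hac ham hbm hα hβ hda.1 hdb.1
    · rcases near_mixed hNG hb hc hbc hbm ham hθ' h2 hdb.2 hα hda.1 with h | h | ⟨d, hd, x, y⟩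
      · exact Or.inl h.symm
      · exact Or.inr (Or.inl fun h' => h h'.symm)
      · exact Or.inr (Or.inr ⟨d, hd, y, x⟩)
  by_cases h2 : deg θ' = 1
  · obtain ⟨β, rfl, hβ⟩ := linear hθ' h2 hθ1'
    exact near_mixed hNG ha hc hac ham hbm hθ h1 hda.2 hβ hdb.1
  -- both non-linear: pass to the derived subgroup
  set M := ⁅N, N⁆ with hM
  haveI : M.Normal := Subgroup.commutator_normal N N
  have hMN : M ≤ N := Subgroup.commutator_le_self N
  letI := Fintype.ofFinite M
  haveI : Group.IsSolvable M :=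
    Group.isSolvable_of_isSolvable_injective (Subgroup.inclusion_injective hMN)
  have hsub : Cfsg.relCharDegrees M ⊆ Cfsg.relCharDegrees N := fun d ⟨χ, ⟨x, hx, hne⟩, hd⟩ =>
    ⟨χ, ⟨x, hMN hx, hne⟩, hd⟩
  -- both degrees survive
  have survive : ∀ {ξ : N → ℂ} {ω : Cfsg.IrrCharacter G}, Cfsg.IsIrrCharacter N ξ → deg ξ ≠ 1 →
      Above N (ω : G → ℂ) ξ → deg (ω : G → ℂ) ∈ Cfsg.relCharDegrees M := by
    intro ξ ω hξ hξ1 hab
    refine ⟨ω, ?_, charDegree_eq_deg ω.2⟩
    by_contra hall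
    push Not at hall
    exact hξ1 (deg_eq_one_of_trivial_on_derived hξ hab hall)
  have haM : a ∈ Cfsg.relCharDegrees M := hdeg ▸ survive hθ h1 hcθ
  have hbM : b ∈ Cfsg.relCharDegrees M := hdeg' ▸ survive hθ' h2 hcθ'
  have hMbot : M ≠ ⊥ := fun h => by
    obtain ⟨ω, ⟨x, hx, hne⟩, -⟩ := haM
    rw [h, Subgroup.mem_bot] at hx
    exact hne (by rw [hx])
  obtain ⟨c', hc', hcm'⟩ := exists_derived_degree (N := N) hMbot
  have hN' : ⁅N, N⁆ < N := lt_of_le_of_ne hMN fun e => hcm (by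
    rw [hM, e, Subgroup.relIndex_self]; exact Nat.coprime_one_right c)
  have hnc : ∀ d ∈ Cfsg.relCharDegrees N, d.Coprime (M.relIndex N) → ¬ Conn N d c →
      ¬ Conn N d c' := by
    intro d hd hdm hdc h
    obtain ⟨r, hr, hrc', hrm⟩ := Nat.Prime.not_coprime_iff_dvd.1 hcm'
    rcases (rel_graph hN' hNG).2 d c hd hc (fun hre => hdc ⟨hd, hc, hre⟩) with ⟨-, hall⟩ | ⟨hcop, -⟩
    · exact hdc (h.trans (conn_of_dvd (hsub hc') hc hr.one_lt hrc' (hall r hr hrm)))
    · exact hcm hcop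
  have hmono : ∀ {x y : ℕ}, Conn M x y → Conn N x y := fun ⟨hx, hy, h⟩ =>
    ⟨hsub hx, hsub hy, h.map (SimpleGraph.induceHomOfLE Cfsg.commonDivisorGraph hsub).toHom⟩
  have hM' : ⁅M, M⁆ < M := by
    refine lt_of_le_of_ne (Subgroup.commutator_le_self M) fun h => ?_
    haveI : Nontrivial M := (Subgroup.nontrivial_iff_ne_bot M).2 hMbot
    refine (Group.IsSolvable.commutator_lt_top_of_nontrivial (G := M)).ne
      (Subgroup.map_injective M.subtype_injective ?_)
    rw [Subgroup.map_subtype_commutator, h, ← MonoidHom.range_eq_map, Subgroup.range_subtype]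
  have hMG : M ≤ _root_.commutator G := hMN.trans hNG
  have side : ∀ d, ∀ hd : d ∈ Cfsg.relCharDegrees M, ¬ Conn M d c' →
      (d.Coprime ((⁅M, M⁆).relIndex M) ∧ ¬ c'.Coprime ((⁅M, M⁆).relIndex M)) ∨
        (c'.Coprime ((⁅M, M⁆).relIndex M) ∧
          ∀ r : ℕ, r.Prime → r ∣ (⁅M, M⁆).relIndex M → r ∣ d) := by
    intro d hd hdc
    rcases (rel_graph hM' hMG).2 d c' hd hc' (fun h => hdc ⟨hd, hc', h⟩) with ⟨x, y⟩ | h
    · left
      refine ⟨x, ?_⟩
      obtain ⟨r, hr, hrm⟩ := Nat.exists_prime_and_dvd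
        (fun h1 => not_le_of_gt hM' (relIndex_eq_one.1 h1))
      exact not_coprime_of_dvd hr.one_lt.ne' (y r hr hrm) hrm
    · exact Or.inr h
  have hac' : ¬ Conn M a c' := fun h => hnc a ha ham hac (hmono h)
  have hbc' : ¬ Conn M b c' := fun h => hnc b hb hbm hbc (hmono h)
  rcases side a haM hac' with ⟨ha1, hc1⟩ | ⟨hc1, ha1⟩
  · rcases side b hbM hbc' with ⟨hb1, -⟩ | ⟨hc2, -⟩
    swap
    · exact absurd hc2 hc1
    have hlt : Nat.card M < n := by
      rw [← hn]
      refine lt_of_le_of_ne (Nat.le_of_dvd Nat.card_pos (Subgroup.card_dvd_of_le hMN)) fun e => hcm ?_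
      rw [Subgroup.eq_of_le_of_card_ge hMN e.ge, Subgroup.relIndex_self]
      exact Nat.coprime_one_right c
    rcases ih _ hlt M rfl hMG a haM b hbM c' hc' ha1 hb1 hc1 hac' with h | h | ⟨d, hd, x, y⟩
    · exact Or.inl h
    · exact Or.inr (Or.inl h)
    · exact Or.inr (Or.inr ⟨d, hsub hd, x, y⟩)
  · rcases side b hbM hbc' with ⟨-, hc2⟩ | ⟨-, hb1⟩
    · exact absurd hc1 hc2
    obtain ⟨r, hr, hrm⟩ := Nat.exists_prime_and_dvd
      (fun h1 => not_le_of_gt hM' (relIndex_eq_one.1 h1))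
    exact Or.inr (Or.inl (not_coprime_of_dvd hr.one_lt.ne' (ha1 r hr hrm) (hb1 r hr hrm)))

end Cfsg.Lib.RelGraph
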